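import Groth.Agent.L06.FontLift.Filt
import Mathlib.RingTheory.Derivation.Basic
import Mathlib.Data.Nat.Choose.Sum

/-! The exponential of a derivation with a divided-power parameter. -/

set_option autoImplicit false
set_option linter.style.haveILetI false
universe u v w

open IsLocalRing
open W4c1noabschz1 (dpPow)

namespace Groth.L06.FontLift

variable {O : Type u} [CommRing O] [IsLocalRing O] [IsNoetherianRing O] [IsAdicComplete (maximalIdeal O) O]
  {S : Type w} [CommRing S] [Algebra O S] [Module.Finite O S] {I : Ideal S} (hI : DividedPowers I)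
  (htn : W4c1noabschz1.IsDPTopNilpotent hI)
  {P : Type v} [CommRing P] [Algebra O P]

omit [IsLocalRing O] [IsNoetherianRing O] [IsAdicComplete (maximalIdeal O) O] in
theorem iterate_leibniz (D : Derivation O P P) (n : ℕ) (g h : P) :
    D^[n] (g * h) = ∑ p ∈ Finset.antidiagonal n, (n.choose p.1 : P) * (D^[p.1] g * D^[p.2] h) := by
  induction n with
  | zero => simp
  | succ n ih =>
    rw [Function.iterate_succ_apply', ih, map_sum,
      Finset.sum_antidiagonal_choose_succ_mul (fun i j => D^[i] g * D^[j] h), ← Finset.sum_add_distrib]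
    refine Finset.sum_congr rfl fun p hp => ?_
    rw [Finset.HasAntidiagonal.mem_antidiagonal] at hp
    simp only [Derivation.leibniz, Derivation.map_natCast, smul_eq_mul, mul_zero, add_zero,
      Function.iterate_succ_apply']
    rw [show n.choose p.2 = n.choose p.1 from Nat.choose_symm_of_eq_add (by omega)]
    ring

/-- Partial sums of the exponential series. -/
def expSum (χ : P →ₐ[O] S) (D : Derivation O P P) (e : S) (N : ℕ) (g : P) : S :=
  ∑ n ∈ Finset.range N, hI.dpow n e * χ (D^[n] g)

variable (χ : P →ₐ[O] S) (D : Derivation O P P) {e : S}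

omit [IsLocalRing O] [IsNoetherianRing O] [IsAdicComplete (maximalIdeal O) O] [Module.Finite O S] in
theorem expSum_mul (he : e ∈ I) (N : ℕ) (g h : P) :
    expSum hI χ D e N (g * h) - expSum hI χ D e N g * expSum hI χ D e N h ∈ dpPow hI N := by
  classical
  let F : ℕ × ℕ → S := fun p => hI.dpow p.1 e * χ (D^[p.1] g) * (hI.dpow p.2 e * χ (D^[p.2] h))
  have h1 : expSum hI χ D e N (g * h) =
      ∑ p ∈ (Finset.range N ×ˢ Finset.range N).filter (fun p => p.1 + p.2 < N), F p := by
    rw [← Finset.sum_fiberwise_of_maps_to (g := fun p : ℕ × ℕ => p.1 + p.2) (t := Finset.range N)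
      (fun p hp => by simpa using (Finset.mem_filter.1 hp).2), expSum]
    refine Finset.sum_congr rfl fun n hn => ?_
    rw [iterate_leibniz, map_sum, Finset.mul_sum]
    refine Finset.sum_congr ?_ fun p hp => ?_
    · ext p
      simp only [Finset.HasAntidiagonal.mem_antidiagonal, Finset.mem_filter, Finset.mem_product, Finset.mem_range] at hn ⊢
      omega
    · simp only [Finset.mem_filter] at hp
      rw [map_mul, map_natCast, map_mul]
      simp only [F]
      rw [← hp.2, show ∀ A B C D : S, A * B * (C * D) = (A * C) * (B * D) from fun A B C D => by ring,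
        hI.mul_dpow he]
      ring
  have h2 : expSum hI χ D e N g * expSum hI χ D e N h = ∑ p ∈ Finset.range N ×ˢ Finset.range N, F p := by
    rw [expSum, expSum, Finset.sum_mul_sum, Finset.sum_product]
  rw [h1, h2, ← Finset.sum_filter_add_sum_filter_not (Finset.range N ×ˢ Finset.range N) (fun p => p.1 + p.2 < N),
    sub_add_cancel_left]
  refine neg_mem (Submodule.sum_mem _ fun p hp => ?_)
  rw [Finset.mem_filter, not_lt] at hp
  simp only [F]
  rw [show ∀ A B C D : S, A * B * (C * D) = (B * D) * (A * C) from fun A B C D => by ring]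
  exact Ideal.mul_mem_left _ _ (dp_anti hI hp.2 (dp_mul hI _ _ (Ideal.mul_mem_mul (dpow_mem_dp hI he _) (dpow_mem_dp hI he _))))

include htn in
theorem exists_exp (he : e ∈ I) :
    ∃ χ' : P →ₐ[O] S, ∀ g N, χ' g - expSum hI χ D e N g ∈ dpPow hI N := by
  have hlim : ∀ g, ∃ L, ∀ N, L - expSum hI χ D e N g ∈ dpPow hI N := fun g =>
    exists_dp_limit (O := O) hI htn _ fun N => by
      rw [expSum, expSum, Finset.sum_range_succ, add_sub_cancel_left]
      exact Ideal.mul_mem_right _ _ (dpow_mem_dp hI he N)
  choose L hL using hlim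
  have huniq : ∀ g y, (∀ N, y - expSum hI χ D e N g ∈ dpPow hI N) → L g = y := fun g y hy =>
    eq_of_forall_dp hI htn fun N => by
      rw [show L g - y = (L g - expSum hI χ D e N g) - (y - expSum hI χ D e N g) by ring]
      exact sub_mem (hL g N) (hy N)
  have hconst : ∀ c : O, L (algebraMap O P c) = algebraMap O S c := fun c => huniq _ _ fun N => by
    cases N with
    | zero => simp [dp_zero]
    | succ N =>
      rw [expSum, Finset.sum_range_succ', Finset.sum_eq_zero (fun i _ => by
        rw [Function.iterate_succ_apply, Derivation.map_algebraMap,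
          iterate_map_zero (D : P →+ P) i |> fun h => (h : D^[i] 0 = 0), map_zero, mul_zero])]
      simp [hI.dpow_zero he]
  refine ⟨{ toFun := L
            map_one' := by rw [← map_one (algebraMap O P), hconst, map_one]
            map_mul' := fun g h => huniq _ _ fun N => by
              rw [show L g * L h - expSum hI χ D e N (g * h) = (L g - expSum hI χ D e N g) * L h +
                expSum hI χ D e N g * (L h - expSum hI χ D e N h) -
                (expSum hI χ D e N (g * h) - expSum hI χ D e N g * expSum hI χ D e N h) by ring]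
              exact sub_mem (add_mem (Ideal.mul_mem_right _ _ (hL g N)) (Ideal.mul_mem_left _ _ (hL h N)))
                (expSum_mul hI χ D he N g h)
            map_zero' := by rw [← map_zero (algebraMap O P), hconst, map_zero]
            map_add' := fun g h => huniq _ _ fun N => by
              have : expSum hI χ D e N (g + h) = expSum hI χ D e N g + expSum hI χ D e N h := by
                simp only [expSum, iterate_map_add, map_add, mul_add, Finset.sum_add_distrib]
              rw [this, add_sub_add_comm]
              exact add_mem (hL g N) (hL h N)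
            commutes' := hconst }, hL⟩

/-- `χ ∘ exp (e D)`. -/
noncomputable def expHom (he : e ∈ I) : P →ₐ[O] S := Classical.choose (exists_exp hI htn χ D he)

theorem expHom_spec (he : e ∈ I) (g : P) (N : ℕ) :
    expHom hI htn χ D he g - expSum hI χ D e N g ∈ dpPow hI N :=
  Classical.choose_spec (exists_exp hI htn χ D he) g N

theorem expHom_mem (he : e ∈ I) (g : P) (Q : Ideal S) (h : ∀ n, 1 ≤ n → hI.dpow n e * χ (D^[n] g) ∈ Q) :
    expHom hI htn χ D he g - χ g ∈ Q := by
  refine mem_of_forall_dp (O := O) hI htn fun N => ?_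
  cases N with
  | zero => simp [dp_zero]
  | succ N =>
    have h1 : expSum hI χ D e (N + 1) g - χ g ∈ Q := by
      rw [expSum, Finset.sum_range_succ']
      simp only [hI.dpow_zero he, one_mul, Function.iterate_zero_apply, add_sub_cancel_right]
      exact Submodule.sum_mem _ fun i _ => h _ (Nat.le_add_left 1 i)
    have := add_mem (Submodule.mem_sup_left (T := dpPow hI (N + 1)) h1)
      (Submodule.mem_sup_right (S := Q) (expHom_spec hI htn χ D he g (N + 1)))
    convert this using 1
    ring

theorem expHom_mem_two (he : e ∈ I) (g : P) (Q : Ideal S) (h : ∀ n, 2 ≤ n → hI.dpow n e * χ (D^[n] g) ∈ Q) :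
    expHom hI htn χ D he g - χ g - e * χ (D g) ∈ Q := by
  refine mem_of_forall_dp (O := O) hI htn fun N => ?_
  have h1 : expSum hI χ D e (N + 2) g - χ g - e * χ (D g) ∈ Q := by
    rw [expSum, Finset.sum_range_succ', Finset.sum_range_succ']
    simp only [hI.dpow_zero he, one_mul, Function.iterate_zero_apply, add_sub_cancel_right,
      hI.dpow_one he, zero_add, Function.iterate_one]
    exact Submodule.sum_mem _ fun i _ => h _ (Nat.le_add_left 2 i)
  have := add_mem (Submodule.mem_sup_left (T := dpPow hI N) h1)
    (Submodule.mem_sup_right (S := Q) (dp_anti hI (Nat.le_add_right N 2) (expHom_spec hI htn χ D he g (N + 2))))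
  convert this using 1
  ring

theorem expHom_sub_mem (he : e ∈ I) {N : ℕ} (hN : 1 ≤ N) (heN : e ∈ dpPow hI N) (g : P) :
    expHom hI htn χ D he g - χ g ∈ dpPow hI N :=
  expHom_mem hI htn χ D he g _ fun n hn => Ideal.mul_mem_right _ _ (dpow_mem_of_mem hI hN heN (by omega))

theorem expHom_zero (g : P) : expHom hI htn χ D I.zero_mem g = χ g :=
  sub_eq_zero.1 <| (Submodule.mem_bot S).1 <| expHom_mem hI htn χ D I.zero_mem g ⊥ fun n hn => by
    rw [hI.dpow_eval_zero (by omega), zero_mul]; exact zero_mem _

/-- First-order dependence on the parameter and on the hom. -/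
theorem expHom_sub_expHom (χ₂ : P →ₐ[O] S) {e₂ : S} (he : e ∈ I) (he₂ : e₂ ∈ I) {M : ℕ} (hM : 1 ≤ M)
    (hd : e - e₂ ∈ dpPow hI M) (hχ : ∀ g, χ g - χ₂ g ∈ dpPow hI M) (g : P) :
    expHom hI htn χ D he g - expHom hI htn χ₂ D he₂ g - (χ g - χ₂ g) - (e - e₂) * χ (D g) ∈ dpPow hI (M + 1) := by
  refine mem_of_forall_dp (O := O) hI htn fun N => ?_
  have hdI : e - e₂ ∈ I := dp_le hI hM hd
  have hterm : ∀ n, 1 ≤ n → hI.dpow n e * χ (D^[n] g) - hI.dpow n e₂ * χ₂ (D^[n] g) -
      (if n = 1 then (e - e₂) * χ (D g) else 0) ∈ dpPow hI (M + 1) := by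
    intro n hn
    rw [show hI.dpow n e * χ (D^[n] g) - hI.dpow n e₂ * χ₂ (D^[n] g) =
      (hI.dpow n e - hI.dpow n e₂) * χ (D^[n] g) + (χ (D^[n] g) - χ₂ (D^[n] g)) * hI.dpow n e₂ by ring, add_sub_right_comm]
    refine add_mem ?_ (mul_mem_dp_succ hI (hχ _) (hI.dpow_mem (by omega) he₂))
    rcases eq_or_lt_of_le hn with rfl | hn2
    · simp [hI.dpow_one he, hI.dpow_one he₂]
    · rw [if_neg (by omega), sub_zero]
      refine Ideal.mul_mem_right _ _ ?_
      have h := hI.dpow_add' (n := n) he₂ hdI
      rw [add_sub_cancel, Finset.sum_range_succ, Nat.sub_self, hI.dpow_zero hdI, mul_one] at h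
      rw [h, add_sub_cancel_right]
      refine Submodule.sum_mem _ fun j hj => ?_
      rw [Finset.mem_range] at hj
      rcases Nat.eq_zero_or_pos j with rfl | hj0
      · exact Ideal.mul_mem_left _ _ (dpow_mem_succ hI hM hd (by omega))
      · rw [mul_comm]
        exact mul_mem_dp_succ hI (dpow_mem_of_mem hI hM hd (by omega)) (hI.dpow_mem hj0.ne' he₂)
  have h1 : expSum hI χ D e (N + 2) g - expSum hI χ₂ D e₂ (N + 2) g - (χ g - χ₂ g) - (e - e₂) * χ (D g) ∈
      dpPow hI (M + 1) := by
    have := Submodule.sum_mem (dpPow hI (M + 1)) fun n (_ : n ∈ Finset.range (N + 1)) => hterm (n + 1) (by omega)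
    convert this using 1
    simp only [Finset.sum_sub_distrib, add_eq_right, Finset.sum_ite_eq', Finset.mem_range, expSum]
    rw [Finset.sum_range_succ' _ (N + 1), Finset.sum_range_succ' _ (N + 1)]
    simp [hI.dpow_zero he, hI.dpow_zero he₂]
    ring
  have := sub_mem (add_mem (Submodule.mem_sup_left (T := dpPow hI N) h1)
    (Submodule.mem_sup_right (S := dpPow hI (M + 1))
      (dp_anti hI (Nat.le_add_right N 2) (expHom_spec hI htn χ D he g (N + 2)))))
    (Submodule.mem_sup_right (S := dpPow hI (M + 1))
      (dp_anti hI (Nat.le_add_right N 2) (expHom_spec hI htn χ₂ D he₂ g (N + 2))))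
  convert this using 1
  ring

end Groth.L06.FontLift
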