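import Groth.Agent.L06.FontLift.Topology
import Groth.Prelude.Def_W4c1noabschz1DP

/-! The divided-power filtration. -/

set_option autoImplicit false
set_option linter.style.haveILetI false
universe u w

open IsLocalRing
open W4c1noabschz1 (dpPow)

namespace Groth.L06.FontLift

section Alg

variable {S : Type w} [CommRing S] {I : Ideal S} (hI : DividedPowers I)

theorem dp_zero : dpPow hI 0 = ⊤ :=
  (Ideal.eq_top_iff_one _).2 (Ideal.subset_span ⟨0, ![], ![], fun i => i.elim0, by simp, by simp⟩)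

theorem dp_anti : Antitone (dpPow hI) := fun a b hab =>
  Ideal.span_mono fun z ⟨r, x, n, hx, hn, hz⟩ => ⟨r, x, n, hx, hab.trans hn, hz⟩

theorem dp_mul (a b : ℕ) : dpPow hI a * dpPow hI b ≤ dpPow hI (a + b) := by
  rw [dpPow, dpPow, Ideal.span_mul_span', Ideal.span_le]
  rintro _ ⟨_, ⟨r, x, n, hx, hn, rfl⟩, _, ⟨s, y, m, hy, hm, rfl⟩, rfl⟩
  refine Ideal.subset_span ⟨r + s, Fin.append x y, Fin.append n m, fun i => ?_, ?_, ?_⟩
  · refine Fin.addCases (fun i => ?_) (fun i => ?_) i <;> simp [hx, hy]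
  · rw [Fin.sum_univ_add]; simpa using Nat.add_le_add hn hm
  · rw [Fin.prod_univ_add]; simp

theorem dpow_mem_dp {x : S} (hx : x ∈ I) (n : ℕ) : hI.dpow n x ∈ dpPow hI n :=
  Ideal.subset_span ⟨1, fun _ => x, fun _ => n, fun _ => hx, by simp, by simp⟩

theorem le_dp_one : I ≤ dpPow hI 1 := fun x hx => by simpa [hI.dpow_one hx] using dpow_mem_dp hI hx 1

theorem dp_le {N : ℕ} (hN : 1 ≤ N) : dpPow hI N ≤ I := by
  refine (dp_anti hI hN).trans (Ideal.span_le.2 ?_)
  rintro _ ⟨r, x, n, hx, hn, rfl⟩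
  obtain ⟨i, hi⟩ : ∃ i, n i ≠ 0 := by
    by_contra h
    push Not at h
    simp [h] at hn
  exact I.mem_of_dvd (Finset.dvd_prod_of_mem _ (Finset.mem_univ i)) (hI.dpow_mem hi (hx i))

theorem mul_mem_dp_succ {N : ℕ} {x y : S} (hx : x ∈ dpPow hI N) (hy : y ∈ I) : x * y ∈ dpPow hI (N + 1) :=
  dp_mul hI N 1 (Ideal.mul_mem_mul hx (le_dp_one hI hy))

theorem dpow_mem_of_mem {N : ℕ} {e : S} (hN : 1 ≤ N) (he : e ∈ dpPow hI N) {n : ℕ} (hn : n ≠ 0) :
    hI.dpow n e ∈ dpPow hI N := by
  induction he using Submodule.span_induction generalizing n with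
  | mem z hz =>
    obtain ⟨r, x, c, hx, hc, rfl⟩ := hz
    obtain ⟨i, hi⟩ : ∃ i, c i ≠ 0 := by
      by_contra h
      push Not at h
      simp [h] at hc
      omega
    have hw : ∏ j ∈ Finset.univ.erase i, hI.dpow (c j) (x j) ∈ dpPow hI (∑ j ∈ Finset.univ.erase i, c j) := by
      refine Finset.induction_on (motive := fun s => ∏ j ∈ s, hI.dpow (c j) (x j) ∈ dpPow hI (∑ j ∈ s, c j))
        (Finset.univ.erase i) (by simp [dp_zero]) fun j s hj ih => ?_
      rw [Finset.prod_insert hj, Finset.sum_insert hj]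
      exact dp_mul hI _ _ (Ideal.mul_mem_mul (dpow_mem_dp hI (hx j) _) ih)
    rw [← Finset.mul_prod_erase Finset.univ _ (Finset.mem_univ i), mul_comm,
      hI.dpow_mul (hI.dpow_mem hi (hx i)), hI.dpow_comp hi (hx i), mul_left_comm]
    refine Ideal.mul_mem_left _ _ (dp_anti hI ?_ (dp_mul hI _ _ (Ideal.mul_mem_mul
      (Ideal.pow_mem_of_mem _ hw n (Nat.pos_of_ne_zero hn)) (dpow_mem_dp hI (hx i) _))))
    rw [← Finset.add_sum_erase Finset.univ _ (Finset.mem_univ i)] at hc
    have : c i ≤ n * c i := Nat.le_mul_of_pos_left _ (Nat.pos_of_ne_zero hn)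
    omega
  | zero => rw [hI.dpow_eval_zero hn]; exact zero_mem _
  | add x y hx hy ihx ihy =>
    rw [hI.dpow_add' (dp_le hI hN hx) (dp_le hI hN hy)]
    refine Submodule.sum_mem _ fun k hk => ?_
    rcases Nat.eq_zero_or_pos k with rfl | hk0
    · exact Ideal.mul_mem_left _ _ (ihy (by simpa using hn))
    · exact Ideal.mul_mem_right _ _ (ihx hk0.ne')
  | smul t x hx ih => rw [smul_eq_mul, hI.dpow_mul (dp_le hI hN hx)]; exact Ideal.mul_mem_left _ _ (ih hn)

theorem dpow_mem_succ {N : ℕ} {e : S} (hN : 1 ≤ N) (he : e ∈ dpPow hI N) {n : ℕ} (hn : 2 ≤ n) :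
    hI.dpow n e ∈ dpPow hI (N + 1) := by
  induction he using Submodule.span_induction generalizing n with
  | mem z hz =>
    obtain ⟨r, x, c, hx, hc, rfl⟩ := hz
    obtain ⟨i, hi⟩ : ∃ i, c i ≠ 0 := by
      by_contra h
      push Not at h
      simp [h] at hc
      omega
    have hw : ∏ j ∈ Finset.univ.erase i, hI.dpow (c j) (x j) ∈ dpPow hI (∑ j ∈ Finset.univ.erase i, c j) := by
      refine Finset.induction_on (motive := fun s => ∏ j ∈ s, hI.dpow (c j) (x j) ∈ dpPow hI (∑ j ∈ s, c j))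
        (Finset.univ.erase i) (by simp [dp_zero]) fun j s hj ih => ?_
      rw [Finset.prod_insert hj, Finset.sum_insert hj]
      exact dp_mul hI _ _ (Ideal.mul_mem_mul (dpow_mem_dp hI (hx j) _) ih)
    rw [← Finset.mul_prod_erase Finset.univ _ (Finset.mem_univ i), mul_comm,
      hI.dpow_mul (hI.dpow_mem hi (hx i)), hI.dpow_comp hi (hx i), mul_left_comm]
    refine Ideal.mul_mem_left _ _ (dp_anti hI ?_ (dp_mul hI _ _ (Ideal.mul_mem_mul
      (Ideal.pow_mem_of_mem _ hw n (by omega)) (dpow_mem_dp hI (hx i) _))))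
    rw [← Finset.add_sum_erase Finset.univ _ (Finset.mem_univ i)] at hc
    have : 2 * c i ≤ n * c i := Nat.mul_le_mul_right _ hn
    omega
  | zero => rw [hI.dpow_eval_zero (by omega)]; exact zero_mem _
  | add x y hx hy ihx ihy =>
    rw [hI.dpow_add' (dp_le hI hN hx) (dp_le hI hN hy)]
    refine Submodule.sum_mem _ fun k hk => ?_
    rw [Finset.mem_range] at hk
    rcases Nat.eq_zero_or_pos k with rfl | hk0
    · exact Ideal.mul_mem_left _ _ (ihy (by simpa using hn))
    · rcases Nat.lt_or_ge k n with hkn | hkn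
      · exact mul_mem_dp_succ hI (dpow_mem_of_mem hI hN hx hk0.ne')
          (hI.dpow_mem (by omega) (dp_le hI hN hy))
      · exact Ideal.mul_mem_right _ _ (ihx (by omega))
  | smul t x hx ih => rw [smul_eq_mul, hI.dpow_mul (dp_le hI hN hx)]; exact Ideal.mul_mem_left _ _ (ih hn)

end Alg

section Top

variable {O : Type u} [CommRing O] [IsLocalRing O] [IsNoetherianRing O] [IsAdicComplete (maximalIdeal O) O]
  {S : Type w} [CommRing S] [Algebra O S] [Module.Finite O S] {I : Ideal S} (hI : DividedPowers I)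
  (htn : W4c1noabschz1.IsDPTopNilpotent hI)

include O htn in
theorem exists_dp_le (k : ℕ) : ∃ n, dpPow hI n ≤ pr O S ^ k := chevalley _ (dp_anti hI) htn k

include O htn in
theorem mem_of_forall_dp {Q : Ideal S} {x : S} (h : ∀ N, x ∈ Q ⊔ dpPow hI N) : x ∈ Q := by
  refine mem_of_forall_pr (O := O) fun k => ?_
  obtain ⟨n, hn⟩ := exists_dp_le (O := O) hI htn k
  exact sup_le_sup_left hn _ (h n)

include htn in
omit [IsLocalRing O] [IsNoetherianRing O] [IsAdicComplete (maximalIdeal O) O] [Module.Finite O S] in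
theorem eq_of_forall_dp {x y : S} (h : ∀ N, x - y ∈ dpPow hI N) : x = y := by
  rw [← sub_eq_zero, ← Submodule.mem_bot S, ← show ⨅ n, dpPow hI n = ⊥ from htn, Submodule.mem_iInf]
  exact h

include O htn in
theorem exists_dp_limit (x : ℕ → S) (h : ∀ N, x (N + 1) - x N ∈ dpPow hI N) :
    ∃ L, ∀ N, L - x N ∈ dpPow hI N := by
  have hc : ∀ a b, a ≤ b → x b - x a ∈ dpPow hI a := fun a b hab => by
    induction b, hab using Nat.le_induction with
    | base => rw [sub_self]; exact zero_mem _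
    | succ b hab ih =>
      rw [show x (b + 1) - x a = (x (b + 1) - x b) + (x b - x a) by ring]
      exact add_mem (dp_anti hI hab (h b)) ih
  choose n hn using exists_dp_le (O := O) hI htn
  let φ : ℕ → ℕ := fun k => ∑ i ∈ Finset.range (k + 1), n i
  have hφ : ∀ k, n k ≤ φ k := fun k => Finset.single_le_sum (f := n) (fun _ _ => Nat.zero_le _) (by simp)
  have hφm : ∀ k, φ k ≤ φ (k + 1) := fun k => Finset.sum_le_sum_of_subset (Finset.range_mono (Nat.le_succ _))
  obtain ⟨L, hL⟩ := exists_limit (O := O) (fun k => x (φ k)) fun k =>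
    hn k (dp_anti hI (hφ k) (hc _ _ (hφm k)))
  refine ⟨L, fun N => mem_of_forall_pr (O := O) fun k => ?_⟩
  rw [show L - x N = (L - x (φ k)) + (x (φ k) - x N) by ring]
  refine add_mem (Submodule.mem_sup_right (hL k)) ?_
  rcases le_total N (φ k) with hN | hN
  · exact Submodule.mem_sup_left (hc _ _ hN)
  · rw [← neg_sub]
    exact neg_mem (Submodule.mem_sup_right (hn k (dp_anti hI (hφ k) (hc _ _ hN))))

end Top

end Groth.L06.FontLift
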