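import Groth.Agent.L12.PowSer
import Mathlib.RingTheory.MvPowerSeries.Derivative
import Mathlib.RingTheory.Kaehler.Basic
import Mathlib.RingTheory.LocalRing.Module
import Mathlib.RingTheory.AdicCompletion.Noetherian
import Mathlib.LinearAlgebra.Matrix.Basis
import Mathlib.LinearAlgebra.Matrix.NonsingularInverse
import Mathlib.RingTheory.DiscreteValuationRing.Basic
import Mathlib.LinearAlgebra.FiniteDimensional.Basic

/-! A normal form for the Jacobian when the module of differentials is free modulo a constant. -/

set_option autoImplicit false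
set_option linter.style.haveILetI false
universe u v

open IsLocalRing MvPowerSeries

namespace Groth.L06.FontLift

variable {O : Type u} [CommRing O] [IsLocalRing O] [IsNoetherianRing O] {m : ℕ} {A : Type v} [CommRing A] [Algebra O A]
  [IsLocalRing A] [IsNoetherianRing A]

theorem coe_induction {motive : MvPowerSeries (Fin m) O → Prop} (hC : ∀ r : O, motive (MvPowerSeries.C r))
    (hX : ∀ i, motive (MvPowerSeries.X i)) (hadd : ∀ p q, motive p → motive q → motive (p + q))
    (hmul : ∀ p q, motive p → motive q → motive (p * q)) (p : MvPolynomial (Fin m) O) :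
    motive (p : MvPowerSeries (Fin m) O) := by
  induction p using MvPolynomial.induction_on with
  | C r => rw [MvPolynomial.coe_C]; exact hC r
  | add a b ha hb => rw [MvPolynomial.coe_add]; exact hadd _ _ ha hb
  | mul_X a i ha => rw [MvPolynomial.coe_mul, MvPolynomial.coe_X]; exact hmul _ _ ha (hX i)

variable (π : MvPowerSeries (Fin m) O →ₐ[O] A) (hX : ∀ i, π (MvPowerSeries.X i) ∈ maximalIdeal A)
  [Module.Finite A (Ω[A⁄O])]

include hX in
/-- The differential of a power series is given by its partial derivatives. -/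
theorem d_eq_sum (g : MvPowerSeries (Fin m) O) :
    KaehlerDifferential.D O A (π g) =
      ∑ l, π (pderiv O l g) • KaehlerDifferential.D O A (π (MvPowerSeries.X l)) := by
  let E : MvPowerSeries (Fin m) O → Ω[A⁄O] := fun g => KaehlerDifferential.D O A (π g) -
    ∑ l, π (pderiv O l g) • KaehlerDifferential.D O A (π (MvPowerSeries.X l))
  have hadd : ∀ p q, E (p + q) = E p + E q := fun p q => by
    simp only [E, map_add, add_smul, Finset.sum_add_distrib]; abel
  have hmul : ∀ p q, E (p * q) = π p • E q + π q • E p := fun p q => by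
    simp only [E, map_mul, Derivation.leibniz, smul_eq_mul, map_add, add_smul, mul_smul, Finset.sum_add_distrib,
      smul_sub, Finset.smul_sum]
    abel
  have hpoly : ∀ p : MvPolynomial (Fin m) O, E (p : MvPowerSeries (Fin m) O) = 0 := by
    intro p
    refine coe_induction (motive := fun p => E p = 0) (fun r => ?_) (fun i => ?_) (fun p q hp hq => ?_) (fun p q hp hq => ?_) p
    · have : (MvPowerSeries.C r : MvPowerSeries (Fin m) O) = algebraMap O _ r := rfl
      simp [E, this]
    · classical
      simp [E, pderiv_X, Pi.single_apply, apply_ite π]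
    · rw [hadd, hp, hq, add_zero]
    · rw [hmul, hp, hq, smul_zero, smul_zero, add_zero]
  have hpow : ∀ (k : ℕ) p, p ∈ Ideal.span (Set.range (MvPowerSeries.X : Fin m → MvPowerSeries (Fin m) O)) ^ (k + 1) →
      E p ∈ maximalIdeal A ^ k • (⊤ : Submodule A (Ω[A⁄O])) := by
    have hmap : ∀ k p, p ∈ Ideal.span (Set.range (MvPowerSeries.X : Fin m → MvPowerSeries (Fin m) O)) ^ k →
        π p ∈ maximalIdeal A ^ k := fun k p hp => by
      refine Ideal.pow_right_mono ?_ k (Ideal.map_pow π _ k ▸ Ideal.mem_map_of_mem π hp)
      rw [Ideal.map_span, Ideal.span_le]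
      rintro _ ⟨_, ⟨i, rfl⟩, rfl⟩
      exact hX i
    intro k
    induction k with
    | zero => intro p _; rw [pow_zero, Ideal.one_eq_top, Submodule.top_smul]; trivial
    | succ k ih =>
      intro p hp
      rw [pow_succ'] at hp
      refine Submodule.mul_induction_on hp (fun x hx y hy => ?_) (fun x y hx hy => by rw [hadd]; exact add_mem hx hy)
      rw [hmul]
      refine add_mem ?_ (Submodule.smul_mem_smul (hmap _ _ hy) trivial)
      rw [pow_succ' (maximalIdeal A), ← smul_eq_mul, Submodule.smul_assoc]
      exact Submodule.smul_mem_smul (by simpa using hmap 1 x (by simpa using hx)) (ih y hy)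
  haveI : IsHausdorff (maximalIdeal A) (Ω[A⁄O]) := IsHausdorff.of_le_jacobson _ _ (maximalIdeal_le_jacobson _)
  refine sub_eq_zero.1 (IsHausdorff.haus ‹_› (E g) fun k => SModEq.zero.2 ?_)
  have h := hadd (g - ((MvPowerSeries.truncTotal (k + 1) g : MvPolynomial (Fin m) O) : MvPowerSeries (Fin m) O))
    ((MvPowerSeries.truncTotal (k + 1) g : MvPolynomial (Fin m) O) : MvPowerSeries (Fin m) O)
  rw [sub_add_cancel, hpoly, add_zero] at h
  rw [h]
  exact hpow k _ (Groth.L12.sub_truncTotal_mem g (k + 1))

/-- The map to differentials. -/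
noncomputable def toOmega : (Fin m → A) →ₗ[A] Ω[A⁄O] :=
  Fintype.linearCombination A fun l => KaehlerDifferential.D O A (π (MvPowerSeries.X l))

variable (f : Fin m → MvPowerSeries (Fin m) O) (hker : RingHom.ker π.toRingHom = Ideal.span (Set.range f))
  (hπ : Function.Surjective π)

/-- The transposed Jacobian. -/
noncomputable def jacob : Matrix (Fin m) (Fin m) A := Matrix.of fun l j => π (pderiv O l (f j))

include hX hker hπ in
theorem toOmega_props : Function.Surjective (toOmega π) ∧
    LinearMap.ker (toOmega π) = LinearMap.range (jacob π f).mulVecLin := by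
  classical
  have hkey : ∀ g, toOmega π (fun l => π (pderiv O l g)) = KaehlerDifferential.D O A (π g) := fun g => by
    rw [d_eq_sum π hX g, toOmega, Fintype.linearCombination_apply]
  let Q := (Fin m → A) ⧸ LinearMap.range (jacob π f).mulVecLin
  let G : MvPowerSeries (Fin m) O →+ Q :=
    { toFun := fun g => Submodule.Quotient.mk (fun l => π (pderiv O l g))
      map_zero' := by simp only [map_zero]; exact Submodule.Quotient.mk_zero _
      map_add' := fun p q => by
        rw [← Submodule.Quotient.mk_add]
        congr 1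
        funext l
        simp }
  have hGmul : ∀ p q, G (p * q) = π p • G q + π q • G p := fun p q => by
    show Submodule.Quotient.mk _ = π p • Submodule.Quotient.mk _ + π q • Submodule.Quotient.mk _
    rw [← Submodule.Quotient.mk_smul, ← Submodule.Quotient.mk_smul, ← Submodule.Quotient.mk_add]
    congr 1
    funext l
    simp
  have hG0 : ∀ g ∈ RingHom.ker π.toRingHom, G g = 0 := by
    intro g hg
    rw [hker, Ideal.mem_span_range_iff_exists_fun] at hg
    obtain ⟨c, rfl⟩ := hg
    refine (Submodule.Quotient.mk_eq_zero _).2 ⟨fun j => π (c j), funext fun l => ?_⟩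
    have hf0 : ∀ j, π (f j) = 0 := fun j => RingHom.mem_ker.1 (show f j ∈ RingHom.ker π.toRingHom by rw [hker]; exact Ideal.subset_span ⟨j, rfl⟩)
    simp [jacob, Matrix.mulVec, dotProduct, hf0, mul_comm]
  let s := Function.surjInv hπ
  have hs : ∀ x, π (s x) = x := Function.surjInv_eq hπ
  have hGs : ∀ g, G (s (π g)) = G g := fun g => by
    rw [← sub_eq_zero, ← map_sub]
    exact hG0 _ (by rw [RingHom.mem_ker]; show π (s (π g) - g) = 0; rw [map_sub, hs, sub_self])
  let δ : Derivation O A Q :=
    Derivation.mk'
      { toFun := fun x => G (s x)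
        map_add' := fun x y => by
          rw [← map_add, ← hGs (s x + s y), map_add π, hs, hs]
        map_smul' := fun r x => by
          have : r • x = π (algebraMap O _ r * s x) := by rw [map_mul, AlgHom.commutes, hs, Algebra.smul_def]
          rw [this, hGs, hGmul, RingHom.id_apply, AlgHom.commutes, algebraMap_smul]
          have h0 : G (algebraMap O _ r) = 0 := by
            refine (Submodule.Quotient.mk_eq_zero _).2 ?_
            convert (LinearMap.range (jacob π f).mulVecLin).zero_mem with l
            simp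
          rw [h0, smul_zero, add_zero] }
      fun x y => by
        show G (s (x * y)) = x • G (s y) + y • G (s x)
        rw [show x * y = π (s x * s y) by rw [map_mul, hs, hs], hGs, hGmul, hs, hs]
  have hΘ : δ.liftKaehlerDifferential ∘ₗ toOmega π = Submodule.mkQ _ := by
    refine LinearMap.pi_ext' fun l => LinearMap.ext_ring ?_
    have h1 : toOmega π (Pi.single l (1 : A)) = KaehlerDifferential.D O A (π (MvPowerSeries.X l)) := by
      simp [toOmega, Fintype.linearCombination_apply_single]
    simp only [LinearMap.coe_comp, Function.comp_apply, LinearMap.coe_single, h1, Derivation.liftKaehlerDifferential_comp_D]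
    show G (s (π (MvPowerSeries.X l))) = _
    rw [hGs]
    show Submodule.Quotient.mk _ = _
    rw [Submodule.mkQ_apply]
    congr 1
    funext i
    simp [pderiv_X, Pi.single_apply, apply_ite π, eq_comm]
  refine ⟨?_, le_antisymm (fun v hv => ?_) ?_⟩
  · rw [← LinearMap.range_eq_top, eq_top_iff, ← KaehlerDifferential.span_range_derivation, Submodule.span_le]
    rintro _ ⟨x, rfl⟩
    exact ⟨_, (hkey (s x)).trans (congrArg _ (hs x))⟩
  · have h := LinearMap.congr_fun hΘ v
    rw [LinearMap.comp_apply, LinearMap.mem_ker.1 hv, map_zero] at h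
    exact (Submodule.Quotient.mk_eq_zero _).1 h.symm
  · rintro _ ⟨v, rfl⟩
    rw [LinearMap.mem_ker, Matrix.mulVecLin_apply]
    have hf0 : ∀ j, π (f j) = 0 := fun j => RingHom.mem_ker.1 (show f j ∈ RingHom.ker π.toRingHom by rw [hker]; exact Ideal.subset_span ⟨j, rfl⟩)
    have : (jacob π f).mulVec v = ∑ j, v j • fun l => π (pderiv O l (f j)) := by
      funext l
      simp [jacob, Matrix.mulVec, dotProduct, mul_comm]
    rw [this, map_sum]
    exact Finset.sum_eq_zero fun j _ => by rw [map_smul, hkey, hf0, map_zero, smul_zero]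

/-- A basis adapted to a presentation of a free module over `A/a`. -/
theorem exists_basis (a : A) (r : ℕ) (ha : r ≠ 0 → a ∈ maximalIdeal A)
    (Φ : (Fin m → A) →ₗ[A] (Fin r → A ⧸ Ideal.span {a})) (hΦ : Function.Surjective Φ) :
    ∃ (b : Module.Basis (Fin m) A (Fin m → A)) (t : Fin m → Bool),
      ∀ x, x ∈ LinearMap.ker Φ ↔ ∀ k, t k = true → a ∣ b.repr x k := by
  classical
  let q : (Fin r → A) →ₗ[A] (Fin r → A ⧸ Ideal.span {a}) := LinearMap.pi fun i => (Ideal.Quotient.mkₐ A _).toLinearMap ∘ₗ LinearMap.proj i
  have hq : Function.Surjective q := fun y => ⟨fun i => Function.surjInv Ideal.Quotient.mk_surjective (y i),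
    funext fun i => Function.surjInv_eq Ideal.Quotient.mk_surjective (y i)⟩
  obtain ⟨p, hp⟩ := Module.projective_lifting_property q Φ hq
  have hqker : ∀ y, q y = 0 ↔ ∀ i, a ∣ y i := fun y => by
    simp [q, funext_iff, Ideal.Quotient.eq_zero_iff_mem, Ideal.mem_span_singleton]
  have hpsurj : Function.Surjective p := by
    rw [← LinearMap.range_eq_top, eq_top_iff]
    refine Submodule.le_of_le_smul_of_le_jacobson_bot (IsNoetherian.noetherian _) (maximalIdeal_le_jacobson ⊥) fun y _ => ?_
    obtain ⟨x, hx⟩ := hΦ (q y)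
    have h0 : q (y - p x) = 0 := by rw [map_sub, ← LinearMap.comp_apply, hp, hx, sub_self]
    refine Submodule.mem_sup.2 ⟨p x, ⟨x, rfl⟩, y - p x, ?_, add_sub_cancel _ _⟩
    rcases eq_or_ne r 0 with rfl | hr
    · rw [Subsingleton.elim (y - p x) 0]; exact zero_mem _
    · choose c hc using (hqker _).1 h0
      rw [show y - p x = a • c from funext hc]
      exact Submodule.smul_mem_smul (ha hr) trivial
  obtain ⟨s, hs⟩ := Module.projective_lifting_property p LinearMap.id hpsurj
  have hps : ∀ y, p (s y) = y := fun y => LinearMap.congr_fun hs y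
  let eqv : (Fin m → A) ≃ₗ[A] (Fin r → A) × LinearMap.ker p :=
    { toFun := fun x => (p x, ⟨x - s (p x), by simp [LinearMap.mem_ker, hps]⟩)
      map_add' := fun x y => Prod.ext (map_add p x y) (Subtype.ext (by simp [add_sub_add_comm]))
      map_smul' := fun c x => Prod.ext (map_smul p c x) (Subtype.ext (by simp [smul_sub]))
      invFun := fun z => s z.1 + (z.2 : Fin m → A)
      left_inv := fun x => by simp
      right_inv := fun z => by
        have hz : p (z.2 : Fin m → A) = 0 := z.2.2
        refine Prod.ext (by simp [hps, hz]) (Subtype.ext (by simp [hps, hz])) }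
  haveI : Module.Projective A (LinearMap.ker p) :=
    Module.Projective.of_split (eqv.symm.toLinearMap ∘ₗ LinearMap.inr A (Fin r → A) (LinearMap.ker p))
      (LinearMap.snd A (Fin r → A) (LinearMap.ker p) ∘ₗ eqv.toLinearMap) (LinearMap.ext fun z => by simp)
  haveI : Module.Finite A (LinearMap.ker p) :=
    Module.Finite.of_surjective (LinearMap.snd A (Fin r → A) (LinearMap.ker p) ∘ₗ eqv.toLinearMap)
      (Prod.snd_surjective.comp eqv.surjective)
  haveI : Module.Free A (LinearMap.ker p) := Module.free_of_flat_of_isLocalRing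
  let bK := Module.finBasis A (LinearMap.ker p)
  let b₀ := ((Pi.basisFun A (Fin r)).prod bK).map eqv.symm
  have hcard : Fintype.card (Fin r ⊕ Fin (Module.finrank A (LinearMap.ker p))) = Fintype.card (Fin m) := by
    rw [← Module.finrank_eq_card_basis b₀, Module.finrank_fin_fun, Fintype.card_fin]
  let σ := Fintype.equivOfCardEq hcard
  refine ⟨b₀.reindex σ, fun k => (σ.symm k).isLeft, fun x => ?_⟩
  rw [LinearMap.mem_ker, ← hp, LinearMap.comp_apply, hqker]
  constructor
  · intro h k hk
    obtain ⟨i, hi⟩ := Sum.isLeft_iff.1 hk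
    have : (b₀.reindex σ).repr x k = p x i := by simp [hi, b₀, eqv]
    rw [this]; exact h i
  · intro h i
    have := h (σ (Sum.inl i)) (by simp)
    have e : (b₀.reindex σ).repr x (σ (Sum.inl i)) = p x i := by simp [b₀, eqv]
    rwa [e] at this

include hX hker hπ in
/-- Derivations and generators adapted to the Jacobian. -/
theorem exists_normal (a : O) (ha : ∀ x : A, algebraMap O A a * x = 0 → x = 0) (r : ℕ)
    (har : r ≠ 0 → algebraMap O A a ∈ maximalIdeal A)
    (hΩ : Nonempty (Ω[A⁄O] ≃ₗ[A] (Fin r → A ⧸ Ideal.span {algebraMap O A a}))) :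
    ∃ (F : Fin m → MvPowerSeries (Fin m) O) (D : Fin m → Derivation O (MvPowerSeries (Fin m) O) (MvPowerSeries (Fin m) O))
      (c : Fin m → O), Ideal.span (Set.range F) = Ideal.span (Set.range f) ∧ (∀ k, c k = a ∨ c k = 1) ∧
      (∀ k l, D k (F l) - (if l = k then algebraMap O _ (c k) else 0) ∈ Ideal.span (Set.range f)) ∧
      IsUnit (Matrix.of fun l k => D k (MvPowerSeries.X l)).det := by
  classical
  obtain ⟨ψ⟩ := hΩ
  obtain ⟨hsurj, hkerq⟩ := toOmega_props π hX f hker hπ
  obtain ⟨b, t, ht⟩ := exists_basis (algebraMap O A a) r har (ψ.toLinearMap ∘ₗ toOmega π) (ψ.surjective.comp hsurj)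
  let J := jacob π f
  have hrange : ∀ x, (∀ k, t k = true → algebraMap O A a ∣ b.repr x k) ↔ ∃ v, J.mulVec v = x := fun x => by
    rw [← ht, LinearMap.mem_ker, LinearMap.comp_apply, LinearEquiv.coe_toLinearMap, ψ.map_eq_zero_iff,
      ← LinearMap.mem_ker, hkerq]
    rfl
  let c : Fin m → O := fun k => if t k then a else 1
  have hc : ∀ k x, algebraMap O A (c k) * x = 0 → x = 0 := fun k x hx => by
    by_cases htk : t k
    · exact ha x (by simpa [c, htk] using hx)
    · simpa [c, htk] using hx
  choose V hV using fun k => (hrange (algebraMap O A (c k) • b k)).1 fun k' hk' => by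
    rw [map_smul, Module.Basis.repr_self, Finsupp.smul_single, smul_eq_mul, mul_one, Finsupp.single_apply]
    split_ifs with h
    · subst h; simp [c, hk']
    · exact dvd_zero _
  have hT : ∀ j k, ∃ T, b.repr (J.mulVec (Pi.single j 1)) k = algebraMap O A (c k) * T := fun j k => by
    by_cases htk : t k
    · obtain ⟨T, hT⟩ := (hrange (J.mulVec (Pi.single j 1))).2 ⟨_, rfl⟩ k htk
      refine ⟨T, ?_⟩
      rw [show c k = a from if_pos htk]
      exact hT
    · refine ⟨b.repr (J.mulVec (Pi.single j 1)) k, ?_⟩
      rw [show c k = 1 from if_neg htk, map_one, one_mul]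
  choose T hT using hT
  let Vm : Matrix (Fin m) (Fin m) A := Matrix.of fun j k => V k j
  let Tm : Matrix (Fin m) (Fin m) A := Matrix.of fun k j => T j k
  let Um : Matrix (Fin m) (Fin m) A := b.toMatrix (Pi.basisFun A (Fin m))
  have hU : IsUnit Um.det := by
    haveI := b.invertibleToMatrix (Pi.basisFun A (Fin m))
    exact Matrix.isUnit_det_of_invertible _
  have hUapply : ∀ x, Um.mulVec x = b.repr x := fun x => by
    have h := Module.Basis.toMatrix_mulVec_repr (Pi.basisFun A (Fin m)) b x
    rwa [show ((Pi.basisFun A (Fin m)).repr x : Fin m → A) = x from funext fun i => by simp] at h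
  have hUJV : Um * J * Vm = Matrix.diagonal fun k => algebraMap O A (c k) := by
    ext i k
    have h1 := congrFun (congrArg Um.mulVec (hV k)) i
    rw [hUapply (algebraMap O A (c k) • b k), Matrix.mulVec_mulVec] at h1
    simp only [map_smul, Module.Basis.repr_self, Finsupp.smul_single, smul_eq_mul, mul_one, Finsupp.single_apply] at h1
    rw [Matrix.diagonal_apply]
    refine Eq.trans (by rfl) (h1.trans ?_)
    by_cases hik : k = i
    · subst hik; simp
    · rw [if_neg hik, if_neg (Ne.symm hik)]
  have hUJ : Um * J = (Matrix.diagonal fun k => algebraMap O A (c k)) * Tm := by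
    ext k j
    rw [Matrix.diagonal_mul]
    simp only [Tm, Matrix.of_apply]
    rw [← hT, ← hUapply, Matrix.mulVec_mulVec, Matrix.mulVec_single_one]
    rfl
  have hTV : Tm * Vm = 1 := by
    ext k j
    have h1 := congrFun (congrFun hUJV k) j
    rw [hUJ, Matrix.mul_assoc, Matrix.diagonal_mul, Matrix.diagonal_apply] at h1
    refine sub_eq_zero.1 (hc k _ ?_)
    rw [mul_sub, h1, Matrix.one_apply]
    split_ifs <;> simp
  have hVdet : IsUnit Vm.det := Matrix.isUnit_det_of_left_inverse hTV
  let s := Function.surjInv hπ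
  have hs : ∀ x, π (s x) = x := Function.surjInv_eq hπ
  let Vt : Matrix (Fin m) (Fin m) (MvPowerSeries (Fin m) O) := Vm.map s
  let Ut : Matrix (Fin m) (Fin m) (MvPowerSeries (Fin m) O) := Um.map s
  have hunit : ∀ M : Matrix (Fin m) (Fin m) A, IsUnit M.det → IsUnit (M.map s).det := fun M hM => by
    by_contra h
    have h1 : π (M.map s).det ∈ nonunits A := by
      have h2 : (M.map s).det ∈ maximalIdeal (MvPowerSeries (Fin m) O) := h
      by_contra h3
      rw [mem_nonunits_iff, not_not] at h3
      haveI : IsLocalHom π.toRingHom := .of_surjective _ hπ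
      exact h (isUnit_of_map_unit π.toRingHom _ h3)
    rw [AlgHom.map_det] at h1
    refine h1 ?_
    convert hM using 2
    ext i j; simp [hs]
  let F : Fin m → MvPowerSeries (Fin m) O := fun k => ∑ j, Vt j k * f j
  let D : Fin m → Derivation O (MvPowerSeries (Fin m) O) (MvPowerSeries (Fin m) O) :=
    fun i => ∑ l, Ut i l • pderiv O l
  have hDapply : ∀ i g, D i g = ∑ l, Ut i l * pderiv O l g := fun i g => by
    simp only [D]
    have : ∀ sI : Finset (Fin m), (∑ l ∈ sI, Ut i l • pderiv O l) g = ∑ l ∈ sI, Ut i l * pderiv O l g := by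
      intro sI
      induction sI using Finset.induction_on with
      | empty => simp
      | insert l sI hl ih => rw [Finset.sum_insert hl, Finset.sum_insert hl, Derivation.add_apply, ih,
          Derivation.smul_apply, smul_eq_mul]
    exact this _
  refine ⟨F, D, c, le_antisymm (Ideal.span_le.2 (Set.range_subset_iff.2 fun k => ?_))
    (Ideal.span_le.2 (Set.range_subset_iff.2 fun j => ?_)), fun k => ?_, fun k l => ?_, ?_⟩
  · exact Submodule.sum_mem _ fun j _ => Ideal.mul_mem_left _ _ (Ideal.subset_span ⟨j, rfl⟩)
  · haveI := Matrix.invertibleOfIsUnitDet Vt (hunit Vm hVdet)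
    have h1 : F = Matrix.vecMul f Vt := funext fun k => Finset.sum_congr rfl fun j _ => mul_comm _ _
    have h2 : f j = Matrix.vecMul F (⅟ Vt) j := by rw [h1, Matrix.vecMul_vecMul, mul_invOf_self, Matrix.vecMul_one]
    rw [SetLike.mem_coe, h2]
    show ∑ k, F k * (⅟ Vt) k j ∈ Ideal.span (Set.range F)
    exact Submodule.sum_mem _ fun k _ => Ideal.mul_mem_right _ _ (Ideal.subset_span ⟨k, rfl⟩)
  · by_cases htk : t k
    · exact Or.inl (by simp [c, htk])
    · exact Or.inr (by simp [c, htk])
  · rw [← hker, RingHom.mem_ker]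
    show π (_ - _) = 0
    have hf0 : ∀ j, π (f j) = 0 := fun j => RingHom.mem_ker.1 (show f j ∈ RingHom.ker π.toRingHom by rw [hker]; exact Ideal.subset_span ⟨j, rfl⟩)
    have h1 : π (D k (F l)) = (Um * J * Vm) k l := by
      rw [hDapply, map_sum]
      simp only [F, map_sum, Derivation.leibniz, smul_eq_mul, map_add, map_mul, hf0, zero_mul, add_zero,
        Ut, Vt, Matrix.map_apply, hs, Matrix.mul_apply, Finset.sum_mul, Finset.mul_sum, J, jacob, Matrix.of_apply]
      rw [Finset.sum_comm]
      refine Finset.sum_congr rfl fun i _ => Finset.sum_congr rfl fun j _ => ?_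
      ring
    rw [map_sub, h1, hUJV, Matrix.diagonal_apply]
    by_cases hkl : k = l
    · subst hkl; simp
    · rw [if_neg hkl, if_neg (Ne.symm hkl)]; simp
  · have : (Matrix.of fun l k => D k (MvPowerSeries.X l)) = Ut.transpose := by
      ext l k
      simp [hDapply, pderiv_X, Pi.single_apply]
    rw [this, Matrix.det_transpose]
    exact hunit Um hU

end Groth.L06.FontLift
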