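import Groth.Agent.L06.FontLift.Exp
import Groth.Agent.L06.FontLift.Normal

/-! Lifting and uniqueness along a divided-power ideal. -/

set_option autoImplicit false
set_option linter.style.haveILetI false
universe u w

open IsLocalRing
open W4c1noabschz1 (dpPow)

namespace Groth.L06.FontLift

variable {O : Type u} [CommRing O] [IsLocalRing O] [IsNoetherianRing O] [IsAdicComplete (maximalIdeal O) O] {m : ℕ}
  {S : Type w} [CommRing S] [Algebra O S] [Module.Finite O S]

theorem topRad_le_jacobson : topRad O S ≤ Ideal.jacobson ⊥ := by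
  rintro x ⟨k, hk⟩
  have h := pr_le_jacobson hk
  rw [Ideal.jacobson, Submodule.mem_sInf] at h ⊢
  exact fun M hM => hM.2.isPrime.mem_of_pow_mem k (h M hM)

/-- Two homomorphisms to a quotient agreeing on the variables are equal. -/
theorem hom_ext_quot (χ : MvPowerSeries (Fin m) O →ₐ[O] S) (hχ : ∀ l, χ (MvPowerSeries.X l) ∈ topRad O S)
    (Q : Ideal S) (φ : MvPowerSeries (Fin m) O →ₐ[O] S ⧸ Q)
    (h : ∀ l, φ (MvPowerSeries.X l) = Ideal.Quotient.mk Q (χ (MvPowerSeries.X l))) (g : MvPowerSeries (Fin m) O) :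
    φ g = Ideal.Quotient.mk Q (χ g) := by
  haveI := isNoetherian_ring O S
  obtain ⟨w, hw⟩ := Ideal.Quotient.mk_surjective (φ g)
  rw [← hw, Ideal.Quotient.eq]
  refine mem_of_forall_pow (topRad_le_jacobson (O := O)) fun k => ?_
  let φ₀ : MvPowerSeries (Fin m) O →ₐ[O] S ⧸ Q := (Ideal.Quotient.mkₐ O Q).comp χ
  let V := Ideal.span (Set.range (MvPowerSeries.X : Fin m → MvPowerSeries (Fin m) O))
  have hmap : ∀ ψ : MvPowerSeries (Fin m) O →ₐ[O] S ⧸ Q,
      (∀ l, ψ (MvPowerSeries.X l) = Ideal.Quotient.mk Q (χ (MvPowerSeries.X l))) →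
      ∀ p ∈ V ^ k, ψ p ∈ (topRad O S ^ k).map (Ideal.Quotient.mk Q) := fun ψ hψ p hp => by
    rw [Ideal.map_pow]
    refine Ideal.pow_right_mono ?_ k (Ideal.map_pow ψ _ k ▸ Ideal.mem_map_of_mem ψ hp)
    rw [Ideal.map_span, Ideal.span_le]
    rintro _ ⟨_, ⟨l, rfl⟩, rfl⟩
    rw [hψ]
    exact Ideal.mem_map_of_mem _ (hχ l)
  have hpoly : ∀ p : MvPolynomial (Fin m) O, φ (p : MvPowerSeries (Fin m) O) = φ₀ (p : MvPowerSeries (Fin m) O) := by
    intro p
    exact coe_induction (motive := fun p => φ p = φ₀ p) (fun r => (φ.commutes r).trans (φ₀.commutes r).symm) h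
      (fun p q hp hq => by rw [map_add, map_add, hp, hq]) (fun p q hp hq => by rw [map_mul, map_mul, hp, hq]) p
  have hd : φ g - φ₀ g ∈ (topRad O S ^ k).map (Ideal.Quotient.mk Q) := by
    have hg := Groth.L12.sub_truncTotal_mem g k
    have := sub_mem (hmap φ h _ hg) (hmap φ₀ (fun l => rfl) _ hg)
    rwa [map_sub, map_sub, hpoly, sub_sub_sub_cancel_right] at this
  rw [← hw, show φ₀ g = Ideal.Quotient.mk Q (χ g) from rfl, ← map_sub,
    Ideal.mem_map_iff_of_surjective _ Ideal.Quotient.mk_surjective] at hd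
  obtain ⟨j, hj, hj'⟩ := hd
  rw [Ideal.Quotient.eq] at hj'
  have := sub_mem (Submodule.mem_sup_right (S := Q) hj) (Submodule.mem_sup_left hj')
  simpa using this

theorem hom_sub_mem (χ χ' : MvPowerSeries (Fin m) O →ₐ[O] S) (hχ : ∀ l, χ (MvPowerSeries.X l) ∈ topRad O S)
    (Q : Ideal S) (h : ∀ l, χ' (MvPowerSeries.X l) - χ (MvPowerSeries.X l) ∈ Q) (g : MvPowerSeries (Fin m) O) :
    χ' g - χ g ∈ Q :=
  Ideal.Quotient.eq.1 (hom_ext_quot χ hχ Q ((Ideal.Quotient.mkₐ O Q).comp χ') (fun l => Ideal.Quotient.eq.2 (h l)) g)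

variable {I : Ideal S} (hI : DividedPowers I) (htn : W4c1noabschz1.IsDPTopNilpotent hI)

include htn in
theorem le_topRad : I ≤ topRad O S := fun x hx => by
  obtain ⟨n, hn⟩ := exists_dp_le (O := O) hI htn 1
  rw [pow_one] at hn
  refine ⟨n, hn ?_⟩
  rw [← hI.factorial_mul_dpow_eq_pow hx]
  exact Ideal.mul_mem_left _ _ (dpow_mem_dp hI hx n)

variable (D : Fin m → Derivation O (MvPowerSeries (Fin m) O) (MvPowerSeries (Fin m) O))

/-- Iterated exponentials. -/
noncomputable def chain (χ : MvPowerSeries (Fin m) O →ₐ[O] S) (e : Fin m → S) (he : ∀ k, e k ∈ I) :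
    ℕ → (MvPowerSeries (Fin m) O →ₐ[O] S)
  | 0 => χ
  | k + 1 => if h : k < m then expHom hI htn (chain χ e he k) (D ⟨k, h⟩) (he ⟨k, h⟩) else chain χ e he k

variable (χ : MvPowerSeries (Fin m) O →ₐ[O] S)

theorem chain_sub_mem (e : Fin m → S) (he : ∀ k, e k ∈ I) {N : ℕ} (hN : 1 ≤ N) (heN : ∀ k, e k ∈ dpPow hI N)
    (g : MvPowerSeries (Fin m) O) : ∀ k, chain hI htn D χ e he k g - χ g ∈ dpPow hI N
  | 0 => by simp [chain]
  | k + 1 => by
    rw [chain]
    split_ifs with h
    · have := add_mem (expHom_sub_mem hI htn (chain hI htn D χ e he k) (D ⟨k, h⟩) (he ⟨k, h⟩) hN (heN ⟨k, h⟩) g)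
        (chain_sub_mem e he hN heN g k)
      simpa using this
    · exact chain_sub_mem e he hN heN g k

theorem chain_diff (e e₂ : Fin m → S) (he : ∀ k, e k ∈ I) (he₂ : ∀ k, e₂ k ∈ I) {M : ℕ} (hM : 1 ≤ M)
    (hd : ∀ k, e k - e₂ k ∈ dpPow hI M) : ∀ (k : ℕ) (g : MvPowerSeries (Fin m) O),
    chain hI htn D χ e he k g - chain hI htn D χ e₂ he₂ k g -
      ∑ i : Fin m, (if (i : ℕ) < k then (e i - e₂ i) * χ (D i g) else 0) ∈ dpPow hI (M + 1) := by
  intro k
  induction k with
  | zero => intro g; simp [chain]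
  | succ k ih =>
    intro g
    rw [chain, chain]
    split_ifs with h
    · have hAB : ∀ g, chain hI htn D χ e he k g - chain hI htn D χ e₂ he₂ k g ∈ dpPow hI M := fun g => by
        have hsum : ∑ i : Fin m, (if (i : ℕ) < k then (e i - e₂ i) * χ (D i g) else 0) ∈ dpPow hI M :=
          Submodule.sum_mem _ fun i _ => by
            split_ifs
            · exact Ideal.mul_mem_right _ _ (hd i)
            · exact zero_mem _
        have := add_mem (dp_anti hI (Nat.le_succ M) (ih g)) hsum
        simpa using this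
      have h1 := expHom_sub_expHom hI htn (chain hI htn D χ e he k) (D ⟨k, h⟩) (chain hI htn D χ e₂ he₂ k)
        (he ⟨k, h⟩) (he₂ ⟨k, h⟩) hM (hd _) hAB g
      have h2 : (e ⟨k, h⟩ - e₂ ⟨k, h⟩) * (chain hI htn D χ e he k (D ⟨k, h⟩ g) - χ (D ⟨k, h⟩ g)) ∈ dpPow hI (M + 1) :=
        mul_mem_dp_succ hI (hd _) (dp_le hI le_rfl
          (chain_sub_mem hI htn D χ e he le_rfl (fun i => le_dp_one hI (he i)) (D ⟨k, h⟩ g) k))
      have hsplit : ∑ i : Fin m, (if (i : ℕ) < k + 1 then (e i - e₂ i) * χ (D i g) else 0) =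
          ∑ i : Fin m, (if (i : ℕ) < k then (e i - e₂ i) * χ (D i g) else 0) + (e ⟨k, h⟩ - e₂ ⟨k, h⟩) * χ (D ⟨k, h⟩ g) := by
        classical
        rw [← Finset.sum_ite_eq' Finset.univ (⟨k, h⟩ : Fin m) (fun i => (e i - e₂ i) * χ (D i g)) |>.trans
          (if_pos (Finset.mem_univ _)), ← Finset.sum_add_distrib]
        refine Finset.sum_congr rfl fun i _ => ?_
        rcases lt_trichotomy (i : ℕ) k with hi | hi | hi
        · rw [if_pos (by omega), if_pos hi, if_neg (by simp [Fin.ext_iff]; omega), add_zero]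
        · rw [if_pos (by omega), if_neg (by omega), if_pos (Fin.ext hi), zero_add]
        · rw [if_neg (by omega), if_neg (by omega), if_neg (by simp [Fin.ext_iff]; omega), add_zero]
      rw [hsplit]
      convert add_mem (add_mem h1 (ih g)) h2 using 1
      ring
    · have : ∀ i : Fin m, ((i : ℕ) < k + 1) ↔ (i : ℕ) < k := fun i => by have := i.2; omega
      simp only [this]
      exact ih g

variable (F : Fin m → MvPowerSeries (Fin m) O) (c : Fin m → O) (a : O)
  (hD : ∀ k l, D k (F l) - (if l = k then algebraMap O _ (c k) else 0) ∈ Ideal.span (Set.range F))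

include hD in
theorem chain_step (e : Fin m → S) (he : ∀ k, e k ∈ I) {N : ℕ} (hN : 1 ≤ N) (heN : ∀ k, e k ∈ dpPow hI N)
    (G Q : Ideal S) (hQG : Q ≤ G) (hGe : G * dpPow hI N ≤ Q)
    (haQ : Ideal.span {algebraMap O S a} * dpPow hI (N + 1) ≤ Q)
    (hce : ∀ k, algebraMap O S (c k) * e k ∈ G)
    (hk : ∀ k, c k = a ∨ ∀ n, 2 ≤ n → hI.dpow n (e k) ∈ Q)
    (hF : ∀ l, χ (F l) ∈ G) : ∀ (k : ℕ) (l : Fin m),
    chain hI htn D χ e he k (F l) - χ (F l) - (if (l : ℕ) < k then algebraMap O S (c l) * e l else 0) ∈ Q := by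
  intro k
  induction k with
  | zero => intro l; simp [chain]
  | succ k ih =>
    intro l
    rw [chain]
    by_cases h : k < m
    swap
    · rw [dif_neg h]
      have hiff : ((l : ℕ) < k + 1) ↔ (l : ℕ) < k := by have := l.2; omega
      simp only [hiff]
      exact ih l
    · rw [dif_pos h]
      let κ : Fin m := ⟨k, h⟩
      let χk := chain hI htn D χ e he k
      have hFk : ∀ g ∈ Ideal.span (Set.range F), χk g ∈ G := fun g hg => by
        refine (Ideal.span_le (I := G.comap χk)).2 ?_ hg
        rintro _ ⟨j, rfl⟩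
        have h1 := hQG (ih j)
        have h2 : (if (j : ℕ) < k then algebraMap O S (c j) * e j else 0) ∈ G := by
          split_ifs
          · exact hce j
          · exact zero_mem _
        have := add_mem (add_mem h1 (hF j)) h2
        show χk (F j) ∈ G
        convert this using 1
        simp only [χk]; ring
      have hT : c κ = a → ∀ g ∈ Ideal.span {algebraMap O (MvPowerSeries (Fin m) O) a} ⊔ Ideal.span (Set.range F),
          D κ g ∈ Ideal.span {algebraMap O (MvPowerSeries (Fin m) O) a} ⊔ Ideal.span (Set.range F) := by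
        intro hca g hg
        rw [← Ideal.span_union] at hg
        induction hg using Submodule.span_induction with
        | mem x hx =>
          rcases hx with rfl | ⟨j, rfl⟩
          · rw [Derivation.map_algebraMap]; exact zero_mem _
          · have h1 := Submodule.mem_sup_right (S := Ideal.span {algebraMap O (MvPowerSeries (Fin m) O) a}) (hD κ j)
            have h2 : (if j = κ then algebraMap O (MvPowerSeries (Fin m) O) (c κ) else 0) ∈
                Ideal.span {algebraMap O (MvPowerSeries (Fin m) O) a} ⊔ Ideal.span (Set.range F) := by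
              split_ifs
              · rw [hca]; exact Submodule.mem_sup_left (Ideal.mem_span_singleton_self _)
              · exact zero_mem _
            simpa using add_mem h1 h2
        | zero => rw [map_zero]; exact zero_mem _
        | add x y _ _ hx hy => rw [map_add]; exact add_mem hx hy
        | smul t x hx hx' =>
          rw [smul_eq_mul, Derivation.leibniz, smul_eq_mul, smul_eq_mul]
          refine add_mem (Ideal.mul_mem_left _ _ hx') (Ideal.mul_mem_right _ _ ?_)
          rw [← Ideal.span_union]; exact hx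
      have hexp := expHom_mem_two hI htn χk (D κ) (he κ) (F l) Q fun n hn => by
        rcases hk κ with hca | hq
        · have hmem : (⇑(D κ))^[n] (F l) ∈
              Ideal.span {algebraMap O (MvPowerSeries (Fin m) O) a} ⊔ Ideal.span (Set.range F) := by
            clear hn
            induction n with
            | zero => exact Submodule.mem_sup_right (Ideal.subset_span ⟨l, rfl⟩)
            | succ n ihn => rw [Function.iterate_succ_apply']; exact hT hca _ ihn
          obtain ⟨p, hp, q, hqF, hpq⟩ := Submodule.mem_sup.1 hmem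
          obtain ⟨t, rfl⟩ := Ideal.mem_span_singleton'.1 hp
          rw [← hpq, map_add, map_mul, AlgHom.commutes, mul_add]
          refine add_mem ?_ ?_
          · rw [show hI.dpow n (e κ) * (χk t * algebraMap O S a) = χk t * (algebraMap O S a * hI.dpow n (e κ)) by ring]
            exact Ideal.mul_mem_left _ _ (haQ (Ideal.mul_mem_mul (Ideal.mem_span_singleton_self _)
              (dpow_mem_succ hI hN (heN κ) hn)))
          · rw [mul_comm (hI.dpow n (e κ))]
            exact hGe (Ideal.mul_mem_mul (hFk q hqF) (dpow_mem_of_mem hI hN (heN κ) (by omega)))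
        · exact Ideal.mul_mem_right _ _ (hq n hn)
      have hlin : e κ * χk (D κ (F l)) - (if l = κ then algebraMap O S (c κ) * e κ else 0) ∈ Q := by
        have h1 := hGe (Ideal.mul_mem_mul (hFk _ (hD κ l)) (heN κ))
        split_ifs with hlk
        · rw [if_pos hlk, map_sub, AlgHom.commutes] at h1
          convert h1 using 1
          ring
        · rw [if_neg hlk, sub_zero] at h1
          rw [sub_zero, mul_comm]; exact h1
      have := add_mem (add_mem hexp hlin) (ih l)
      by_cases hlk : l = κ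
      · have hv : (l : ℕ) = k := congrArg Fin.val hlk
        rw [if_pos hlk, if_neg (by omega)] at this
        rw [if_pos (by omega)]
        convert this using 1
        subst hlk
        simp only [χk, κ]; ring
      · have hne : (l : ℕ) ≠ k := fun hv => hlk (Fin.ext hv)
        have hiff : ((l : ℕ) < k + 1) ↔ (l : ℕ) < k := by omega
        rw [if_neg hlk] at this
        simp only [hiff]
        convert this using 1
        simp only [χk, κ]; ring

theorem dpow_boot {N M : ℕ} (hN : 1 ≤ N) (hM : N ≤ M) {x : S}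
    (hx : x ∈ Ideal.span {algebraMap O S a} * dpPow hI N ⊔ dpPow hI M) {n : ℕ} (hn : 2 ≤ n) :
    hI.dpow n x ∈ Ideal.span {algebraMap O S a} * dpPow hI (N + 1) ⊔ dpPow hI (M + 1) := by
  obtain ⟨_, hp, z, hz, rfl⟩ := Submodule.mem_sup.1 hx
  obtain ⟨y, hy, rfl⟩ := Ideal.mem_span_singleton_mul.1 hp
  have hyI := dp_le hI hN hy
  have hzI := dp_le hI (hN.trans hM) hz
  rw [hI.dpow_add' (Ideal.mul_mem_left _ _ hyI) hzI]
  refine Submodule.sum_mem _ fun j hj => ?_
  rw [Finset.mem_range] at hj
  rcases Nat.eq_zero_or_pos j with rfl | hj0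
  · exact Ideal.mul_mem_left _ _ (Submodule.mem_sup_right (dpow_mem_succ hI (hN.trans hM) hz (by simpa using hn)))
  · refine Submodule.mem_sup_left ?_
    rw [hI.dpow_mul hyI, mul_assoc]
    obtain ⟨i, rfl⟩ : ∃ i, j = i + 1 := ⟨j - 1, by omega⟩
    rw [pow_succ', mul_assoc]
    refine Ideal.mul_mem_mul (Ideal.mem_span_singleton_self _) (Ideal.mul_mem_left _ _ ?_)
    rcases Nat.lt_or_ge (i + 1) n with hlt | hge
    · exact mul_mem_dp_succ hI (dpow_mem_of_mem hI hN hy (by omega)) (hI.dpow_mem (by omega) hzI)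
    · exact Ideal.mul_mem_right _ _ (dpow_mem_succ hI hN hy (by omega))

variable (hc : ∀ k, c k = a ∨ c k = 1)
  (hW : IsUnit (Matrix.of fun l k => D k (MvPowerSeries.X l) : Matrix (Fin m) (Fin m) (MvPowerSeries (Fin m) O)).det)
  (hreg : ∀ x : S, algebraMap O S a * x = 0 → x = 0)

include hW in
/-- Every homomorphism near `χ` is an iterated exponential. -/
theorem exists_param (χ' : MvPowerSeries (Fin m) O →ₐ[O] S) (hχ : ∀ l, χ (MvPowerSeries.X l) ∈ topRad O S)
    {N : ℕ} (hN : 1 ≤ N) (h : ∀ g, χ' g - χ g ∈ dpPow hI N) :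
    ∃ (e : Fin m → S) (he : ∀ k, e k ∈ I), (∀ k, e k ∈ dpPow hI N) ∧ ∀ g, chain hI htn D χ e he m g = χ' g := by
  classical
  let W : Matrix (Fin m) (Fin m) S := (Matrix.of fun l k => D k (MvPowerSeries.X l)).map χ
  have hWu : IsUnit W.det := by
    rw [show W.det = χ (Matrix.of fun l k => D k (MvPowerSeries.X l)).det from (AlgHom.map_det χ _).symm]
    exact hW.map χ
  haveI := Matrix.invertibleOfIsUnitDet W hWu
  let Good : ℕ → (Fin m → S) → Prop := fun j e => ∃ he : ∀ k, e k ∈ dpPow hI N,
    ∀ l, χ' (MvPowerSeries.X l) - chain hI htn D χ e (fun k => dp_le hI hN (he k)) m (MvPowerSeries.X l) ∈ dpPow hI (N + j)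
  have h0 : Good 0 (fun _ => 0) := by
    refine ⟨fun _ => zero_mem _, fun l => ?_⟩
    have h2 := chain_sub_mem hI htn D χ (fun _ => 0) (fun _ => zero_mem _) hN (fun _ => zero_mem _) (MvPowerSeries.X l) m
    have := sub_mem (h (MvPowerSeries.X l)) h2
    simpa using this
  have step : ∀ j e, Good j e → ∃ e', Good (j + 1) e' ∧ ∀ k, e' k - e k ∈ dpPow hI (N + j) := by
    rintro j e ⟨he, hw⟩
    let w : Fin m → S := fun l => χ' (MvPowerSeries.X l) - chain hI htn D χ e (fun k => dp_le hI hN (he k)) m (MvPowerSeries.X l)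
    let δ : Fin m → S := (⅟ W).mulVec w
    have hδ : ∀ k, δ k ∈ dpPow hI (N + j) := fun k => by
      show ∑ l, (⅟ W) k l * w l ∈ dpPow hI (N + j)
      exact Submodule.sum_mem _ fun l _ => Ideal.mul_mem_left _ _ (hw l)
    refine ⟨e + δ, ⟨fun k => add_mem (he k) (dp_anti hI (Nat.le_add_right N j) (hδ k)), fun l => ?_⟩, fun k => by simpa using hδ k⟩
    have h1 := chain_diff hI htn D χ (e + δ) e (fun k => dp_le hI hN (add_mem (he k) (dp_anti hI (Nat.le_add_right N j) (hδ k))))
      (fun k => dp_le hI hN (he k)) (hN.trans (Nat.le_add_right N j)) (fun k => by simpa using hδ k) m (MvPowerSeries.X l)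
    have hWδ : W.mulVec δ = w := by rw [Matrix.mulVec_mulVec, mul_invOf_self, Matrix.one_mulVec]
    have hsum : ∑ i : Fin m, (if (i : ℕ) < m then ((e + δ) i - e i) * χ (D i (MvPowerSeries.X l)) else 0) = w l := by
      rw [← congrFun hWδ l]
      refine Finset.sum_congr rfl fun i _ => ?_
      simp [W, mul_comm]
    rw [hsum] at h1
    rw [show w l = χ' (MvPowerSeries.X l) - chain hI htn D χ e (fun k => dp_le hI hN (he k)) m (MvPowerSeries.X l) from rfl] at h1
    have key : ∀ A B C : S, -((A - B) - (C - B)) = C - A := fun A B C => by ring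
    have := neg_mem h1
    rw [key] at this
    exact this
  choose next hnext hnext' using step
  let seq : ∀ j, {e : Fin m → S // Good j e} :=
    fun j => Nat.rec ⟨fun _ => 0, h0⟩ (fun j e => ⟨next j e.1 e.2, hnext j e.1 e.2⟩) j
  have hlim : ∀ k, ∃ L, ∀ j, L - (seq j).1 k ∈ dpPow hI j := fun k =>
    exists_dp_limit (O := O) hI htn (fun j => (seq j).1 k) fun j =>
      dp_anti hI (Nat.le_add_left j N) (hnext' j (seq j).1 (seq j).2 k)
  choose L hL using hlim
  have hLN : ∀ k, L k ∈ dpPow hI N := fun k => by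
    obtain ⟨he, -⟩ := (seq N).2
    simpa using add_mem (hL k N) (he k)
  refine ⟨L, fun k => dp_le hI hN (hLN k), hLN, fun g => (sub_eq_zero.1 ?_)⟩
  refine (Submodule.mem_bot S).1 (hom_sub_mem χ' _ (fun l => ?_) ⊥ (fun l => (Submodule.mem_bot S).2 ?_) g)
  · have := add_mem (le_topRad (O := O) hI htn (dp_le hI hN (h (MvPowerSeries.X l)))) (hχ l)
    simpa using this
  · refine sub_eq_zero.2 (eq_of_forall_dp hI htn fun j => dp_anti hI (Nat.le_succ j) ?_)
    obtain ⟨he, hw⟩ := (seq (j + 1)).2
    have hd := chain_diff hI htn D χ L (seq (j + 1)).1 (fun k => dp_le hI hN (hLN k)) (fun k => dp_le hI hN (he k))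
      (Nat.le_add_left 1 j) (fun k => hL k (j + 1)) m (MvPowerSeries.X l)
    have hsum : ∑ i : Fin m, (if (i : ℕ) < m then (L i - (seq (j + 1)).1 i) * χ (D i (MvPowerSeries.X l)) else 0) ∈
        dpPow hI (j + 1) := Submodule.sum_mem _ fun i _ => by
      rw [if_pos i.2]; exact Ideal.mul_mem_right _ _ (hL i (j + 1))
    have := sub_mem (add_mem (dp_anti hI (Nat.le_succ _) hd) hsum) (dp_anti hI (Nat.le_add_left (j + 1) N) (hw l))
    convert this using 1
    ring

include htn hD hc hW hreg in
theorem unique_step (χ' : MvPowerSeries (Fin m) O →ₐ[O] S) (hχ : ∀ l, χ (MvPowerSeries.X l) ∈ topRad O S)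
    (hF : ∀ l, χ (F l) = 0) (hF' : ∀ l, χ' (F l) = 0)
    {N : ℕ} (hN : 1 ≤ N) (h : ∀ g, χ' g - χ g ∈ dpPow hI N) (g : MvPowerSeries (Fin m) O) :
    χ' g - χ g ∈ dpPow hI (N + 1) := by
  obtain ⟨e, he, heN, hchain⟩ := exists_param hI htn D χ hW χ' hχ hN h
  let α := algebraMap O S a
  have hI' : dpPow hI N ≤ I := dp_le hI hN
  have main : ∀ M, N ≤ M → (∀ k, c k = a ∨ e k ∈ Ideal.span {α} * dpPow hI N ⊔ dpPow hI M) →
      ∀ l, algebraMap O S (c l) * e l ∈ Ideal.span {α} * dpPow hI (N + 1) ⊔ dpPow hI (M + 1) := by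
    intro M hM hu l
    have h1 := chain_step hI htn D χ F c a hD e he hN heN (Ideal.span {α} * dpPow hI N ⊔ dpPow hI M)
      (Ideal.span {α} * dpPow hI (N + 1) ⊔ dpPow hI (M + 1))
      (sup_le_sup (Ideal.mul_mono_right (dp_anti hI (Nat.le_succ N))) (dp_anti hI (Nat.le_succ M)))
      (by
        rw [Ideal.sup_mul, mul_assoc]
        refine sup_le_sup (Ideal.mul_mono_right (Ideal.mul_le.2 fun x hx y hy => mul_mem_dp_succ hI hx (hI' hy))) ?_
        exact Ideal.mul_le.2 fun x hx y hy => mul_mem_dp_succ hI hx (hI' hy))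
      le_sup_left
      (fun k => by
        rcases hu k with hk | hk
        · rw [hk]; exact Submodule.mem_sup_left (Ideal.mul_mem_mul (Ideal.mem_span_singleton_self _) (heN k))
        · exact Ideal.mul_mem_left _ _ hk)
      (fun k => (hu k).imp id fun hk n hn => dpow_boot hI a hN hM hk hn)
      (fun l => by rw [hF]; exact zero_mem _) m l
    rw [if_pos l.2, hchain, hF, hF', sub_zero, zero_sub] at h1
    simpa using neg_mem h1
  have hall : ∀ j k, c k = a ∨ e k ∈ Ideal.span {α} * dpPow hI N ⊔ dpPow hI (N + j) := by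
    intro j
    induction j with
    | zero => exact fun k => Or.inr (Submodule.mem_sup_right (heN k))
    | succ j ih =>
      intro k
      refine (hc k).imp id fun hk => ?_
      have h1 := main (N + j) (Nat.le_add_right N j) ih k
      rw [hk, map_one, one_mul] at h1
      exact sup_le_sup (Ideal.mul_mono_right (dp_anti hI (Nat.le_succ N))) (le_of_eq rfl) h1
  have hfin : ∀ k, e k ∈ dpPow hI (N + 1) := by
    intro k
    have h1 : algebraMap O S (c k) * e k ∈ Ideal.span {α} * dpPow hI (N + 1) := by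
      refine mem_of_forall_dp (O := O) hI htn fun j => ?_
      exact sup_le_sup_left (dp_anti hI (by omega)) _ (main (N + j) (Nat.le_add_right N j) (hall j) k)
    rcases hc k with hk | hk <;> rw [hk] at h1
    · obtain ⟨z, hz, hze⟩ := Ideal.mem_span_singleton_mul.1 h1
      rwa [sub_eq_zero.1 (hreg (z - e k) (by rw [mul_sub, hze, sub_self]))] at hz
    · rw [map_one, one_mul] at h1
      exact (Ideal.mul_le.2 fun x _ y hy => Ideal.mul_mem_left _ x hy : Ideal.span {α} * dpPow hI (N + 1) ≤ dpPow hI (N + 1)) h1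
  rw [← hchain g]
  exact chain_sub_mem hI htn D χ e he (Nat.le_add_left 1 N) hfin g m

include htn hD hc in
theorem exists_step {N : ℕ} (hN : 1 ≤ N) (hF : ∀ l, χ (F l) ∈ Ideal.span {algebraMap O S a} * dpPow hI N) :
    ∃ χ' : MvPowerSeries (Fin m) O →ₐ[O] S, (∀ g, χ' g - χ g ∈ dpPow hI N) ∧
      ∀ l, χ' (F l) ∈ Ideal.span {algebraMap O S a} * dpPow hI (N + 1) := by
  classical
  let α := algebraMap O S a
  choose b hb hbe using fun l => Ideal.mem_span_singleton_mul.1 (hF l)
  let e : Fin m → S := fun k => if c k = a then -b k else -(α * b k)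
  have heN : ∀ k, e k ∈ dpPow hI N := fun k => by
    simp only [e]
    split_ifs
    · exact neg_mem (hb k)
    · exact neg_mem (Ideal.mul_mem_left _ _ (hb k))
  have hce : ∀ k, algebraMap O S (c k) * e k = -(α * b k) := fun k => by
    simp only [e]
    split_ifs with hk
    · rw [hk, mul_neg]
    · rw [(hc k).resolve_left hk, map_one, one_mul]
  have he : ∀ k, e k ∈ I := fun k => dp_le hI hN (heN k)
  refine ⟨chain hI htn D χ e he m, fun g => chain_sub_mem hI htn D χ e he hN heN g m, fun l => ?_⟩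
  have h1 := chain_step hI htn D χ F c a hD e he hN heN (Ideal.span {α} * dpPow hI N)
    (Ideal.span {α} * dpPow hI (N + 1)) (Ideal.mul_mono_right (dp_anti hI (Nat.le_succ N)))
    (by
      rw [mul_assoc]
      exact Ideal.mul_mono_right (Ideal.mul_le.2 fun x hx y hy => mul_mem_dp_succ hI hx (dp_le hI hN hy)))
    le_rfl (fun k => by rw [hce]; exact neg_mem (Ideal.mul_mem_mul (Ideal.mem_span_singleton_self _) (hb k)))
    (fun k => or_iff_not_imp_left.2 fun hk n hn => by
      have hbI := dp_le hI hN (hb k)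
      simp only [e, if_neg hk]
      rw [show -(α * b k) = (-α) * b k by ring, hI.dpow_mul hbI]
      refine Ideal.mul_mem_mul ?_ (dpow_mem_succ hI hN (hb k) hn)
      exact Ideal.pow_mem_of_mem _ (neg_mem (Ideal.mem_span_singleton_self _)) n (by omega))
    hF m l
  rw [if_pos l.2, hce, ← hbe l, sub_neg_eq_add, sub_add_cancel] at h1
  exact h1

end Groth.L06.FontLift
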