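import Groth.Agent.L06.FontLift.Lift
import Groth.Agent.S9405
import Mathlib.RingTheory.Flat.TorsionFree
import Mathlib.RingTheory.MvPowerSeries.Inverse

/-! The lifting theorem. -/

set_option autoImplicit false
set_option linter.style.haveILetI false
universe u v w

open IsLocalRing
open W4c1noabschz1 (dpPow)

namespace Groth.L06.FontLift

variable {O : Type u} [CommRing O] [IsLocalRing O] [IsNoetherianRing O] [IsAdicComplete (maximalIdeal O) O]

theorem mem_topRad_of_local {A : Type v} [CommRing A] [Algebra O A] [IsLocalRing A] [Module.Finite O A] {x : A}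
    (hx : x ∈ maximalIdeal A) : x ∈ topRad O A := by
  haveI : Algebra.IsIntegral O A := Algebra.IsIntegral.of_finite O A
  have key : ∀ P : Ideal A, pr O A ≤ P → P.IsPrime → x ∈ P := fun P hP hPp => by
    have h : maximalIdeal O ≤ P.comap (algebraMap O A) := Ideal.map_le_iff_le_comap.1 hP
    have h' := (maximalIdeal.isMaximal O).eq_of_le (Ideal.comap_ne_top _ hPp.ne_top) h
    haveI hc : (P.comap (algebraMap O A)).IsMaximal := h' ▸ maximalIdeal.isMaximal O
    have hmax : P.IsMaximal := Ideal.isMaximal_of_isIntegral_of_isMaximal_comap (R := O) P hc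
    rw [IsLocalRing.eq_maximalIdeal hmax]
    exact hx
  rw [topRad, Ideal.radical_eq_sInf, Submodule.mem_sInf]
  exact fun P hP => key P hP.1 hP.2

variable {m : ℕ} {A : Type v} [CommRing A] [Algebra O A] {S : Type w} [CommRing S] [Algebra O S] [Module.Finite O S]
  {I : Ideal S} (hI : DividedPowers I) (htn : W4c1noabschz1.IsDPTopNilpotent hI)

omit [IsNoetherianRing O] [IsAdicComplete (maximalIdeal O) O] [Module.Finite O S] in
theorem map_topRad {T : Type w} [CommRing T] [Algebra O T] (φ : A →ₐ[O] T) {x : A} (hx : x ∈ topRad O A) :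
    φ x ∈ topRad O T := by
  obtain ⟨k, hk⟩ := hx
  refine ⟨k, ?_⟩
  rw [← map_pow, pr, ← φ.comp_algebraMap, ← Ideal.map_map]
  exact Ideal.mem_map_of_mem _ hk

include htn in
theorem lifting (f : Fin m → MvPowerSeries (Fin m) O)
    (e : (MvPowerSeries (Fin m) O ⧸ Ideal.span (Set.range f)) ≃ₐ[O] A) [Module.Finite O A]
    (a : O) (haA : ∀ x : A, algebraMap O A a * x = 0 → x = 0) (haS : ∀ x : S, algebraMap O S a * x = 0 → x = 0) (r : ℕ)
    (hΩ : Nonempty (KaehlerDifferential O A ≃ₗ[A] (Fin r → A ⧸ Ideal.span {algebraMap O A a}))) :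
    Function.Injective (fun χ : A →ₐ[O] S => (Ideal.Quotient.mkₐ O I).comp χ) ∧
      Set.range (fun χ : A →ₐ[O] S => (Ideal.Quotient.mkₐ O I).comp χ) =
        Set.range (fun ψ : A →ₐ[O] (S ⧸ Ideal.span {algebraMap O S a} * I) =>
          (Ideal.Quotient.factorₐ O (Ideal.mul_le_right (I := Ideal.span {algebraMap O S a}) (J := I))).comp ψ) := by
  classical
  let α := algebraMap O S a
  have hαI : Ideal.span {α} * I ≤ I := Ideal.mul_le_right
  have hsub : Set.range (fun χ : A →ₐ[O] S => (Ideal.Quotient.mkₐ O I).comp χ) ⊆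
      Set.range (fun ψ : A →ₐ[O] (S ⧸ Ideal.span {α} * I) => (Ideal.Quotient.factorₐ O hαI).comp ψ) := by
    rintro _ ⟨χ, rfl⟩
    exact ⟨(Ideal.Quotient.mkₐ O _).comp χ, AlgHom.ext fun x => Ideal.Quotient.factor_mk hαI (χ x)⟩
  rcases subsingleton_or_nontrivial A with hA | hA
  · refine ⟨fun χ χ' _ => ?_, Set.Subset.antisymm hsub ?_⟩
    · haveI : Subsingleton S := subsingleton_of_zero_eq_one (by rw [← map_zero χ, Subsingleton.elim (0 : A) 1, map_one])
      exact AlgHom.ext fun x => Subsingleton.elim _ _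
    · rintro _ ⟨ψ, rfl⟩
      have h1 : (1 : S) ∈ Ideal.span {α} * I := by
        rw [← Ideal.Quotient.eq_zero_iff_mem, map_one, ← map_one ψ, Subsingleton.elim (1 : A) 0, map_zero]
      haveI : Subsingleton S := subsingleton_of_zero_eq_one (Eq.symm (eq_of_forall_dp hI htn fun N => by
        rw [sub_zero, show (1 : S) = (N.factorial : S) * hI.dpow N 1 by rw [hI.factorial_mul_dpow_eq_pow (hαI h1), one_pow]]
        exact Ideal.mul_mem_left _ _ (dpow_mem_dp hI (hαI h1) N)))
      let χ : A →ₐ[O] S :=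
        { toFun := fun _ => 0
          map_one' := Subsingleton.elim _ _
          map_mul' := fun _ _ => Subsingleton.elim _ _
          map_zero' := rfl
          map_add' := fun _ _ => Subsingleton.elim _ _
          commutes' := fun _ => Subsingleton.elim _ _ }
      exact ⟨χ, AlgHom.ext fun x => by
        obtain ⟨s, hs⟩ := Ideal.Quotient.mk_surjective ((Ideal.Quotient.factorₐ O hαI).comp ψ x)
        show Ideal.Quotient.mk I 0 = _
        rw [← hs, Subsingleton.elim s 0]⟩
  let π : MvPowerSeries (Fin m) O →ₐ[O] A := e.toAlgHom.comp (Ideal.Quotient.mkₐ O _)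
  have hπ : Function.Surjective π := e.surjective.comp Ideal.Quotient.mk_surjective
  have hker : RingHom.ker π.toRingHom = Ideal.span (Set.range f) := by
    ext g
    rw [RingHom.mem_ker]
    show e (Ideal.Quotient.mk _ g) = 0 ↔ _
    rw [map_eq_zero_iff e e.injective, Ideal.Quotient.eq_zero_iff_mem]
  haveI : IsLocalRing A := IsLocalRing.of_surjective' π.toRingHom hπ
  haveI : IsNoetherianRing A := Algebra.FiniteType.isNoetherianRing O A
  have hX : ∀ i, π (MvPowerSeries.X i) ∈ maximalIdeal A := fun i => by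
    rw [← IsLocalRing.map_maximalIdeal_of_surjective π.toRingHom hπ]
    refine Ideal.mem_map_of_mem _ ((mem_maximalIdeal _).2 fun hu => ?_)
    rw [MvPowerSeries.isUnit_iff_constantCoeff, MvPowerSeries.constantCoeff_X] at hu
    exact not_isUnit_zero hu
  obtain ⟨r', har, hΩ'⟩ : ∃ r', (r' ≠ 0 → algebraMap O A a ∈ maximalIdeal A) ∧
      Nonempty (KaehlerDifferential O A ≃ₗ[A] (Fin r' → A ⧸ Ideal.span {algebraMap O A a})) := by
    by_cases hu : IsUnit (algebraMap O A a)
    · obtain ⟨ψ⟩ := hΩ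
      haveI : Subsingleton (A ⧸ Ideal.span {algebraMap O A a}) :=
        Ideal.Quotient.subsingleton_iff.2 (Ideal.eq_top_of_isUnit_mem _ (Ideal.mem_span_singleton_self _) hu)
      haveI : Subsingleton (KaehlerDifferential O A) := ψ.toEquiv.subsingleton
      exact ⟨0, fun h => absurd rfl h, ⟨LinearEquiv.ofSubsingleton _ _⟩⟩
    · exact ⟨r, fun _ => (mem_maximalIdeal _).2 hu, hΩ⟩
  obtain ⟨F, D, c, hFf, hc, hD, hW⟩ := exists_normal π hX f hker hπ a haA r' har hΩ'
  have hD' : ∀ k l, D k (F l) - (if l = k then algebraMap O _ (c k) else 0) ∈ Ideal.span (Set.range F) := fun k l => by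
    rw [hFf]; exact hD k l
  have hFπ : ∀ l, π (F l) = 0 := fun l => RingHom.mem_ker.1
    (show F l ∈ RingHom.ker π.toRingHom by rw [hker, ← hFf]; exact Ideal.subset_span ⟨l, rfl⟩)
  have hIJ : I ≤ topRad O S := le_topRad hI htn
  have hXrad : ∀ l, π (MvPowerSeries.X l) ∈ topRad O A := fun l => mem_topRad_of_local (hX l)
  refine ⟨fun χ χ' h => ?_, Set.Subset.antisymm hsub ?_⟩
  · have h1 : ∀ x, χ' x - χ x ∈ I := fun x => Ideal.Quotient.eq.1 (DFunLike.congr_fun h x).symm
    have hall : ∀ N, ∀ g, χ' (π g) - χ (π g) ∈ dpPow hI (N + 1) := by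
      intro N
      induction N with
      | zero => exact fun g => le_dp_one hI (h1 _)
      | succ N ih =>
        exact fun g => unique_step hI htn D (χ.comp π) F c a hD' hc hW haS (χ'.comp π)
          (fun l => map_topRad χ (hXrad l)) (fun l => by rw [AlgHom.comp_apply, hFπ, map_zero])
          (fun l => by rw [AlgHom.comp_apply, hFπ, map_zero]) (Nat.le_add_left 1 N) ih g
    refine AlgHom.ext fun x => ?_
    obtain ⟨g, rfl⟩ := hπ x
    exact (eq_of_forall_dp hI htn fun N => dp_anti hI (Nat.le_succ N) (hall N g)).symm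
  · rintro _ ⟨ψ, rfl⟩
    let Q := Ideal.span {α} * I
    choose s hs using fun l => Ideal.Quotient.mk_surjective (ψ (π (MvPowerSeries.X l)))
    have hsrad : ∀ l, s l ∈ topRad O S := fun l => by
      obtain ⟨k, hk⟩ := map_topRad ψ (hXrad l)
      rw [← hs, ← map_pow, pr, show algebraMap O (S ⧸ Q) = (Ideal.Quotient.mk Q).comp (algebraMap O S) from rfl,
        ← Ideal.map_map, Ideal.mem_map_iff_of_surjective _ Ideal.Quotient.mk_surjective] at hk
      obtain ⟨p, hp, hp'⟩ := hk
      rw [Ideal.Quotient.eq] at hp'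
      have h2 : s l ^ k ∈ topRad O S := by
        have := sub_mem (Ideal.le_radical (I := pr O S) hp) (hIJ (hαI hp'))
        simpa using this
      exact (Ideal.radical_isRadical _) ⟨k, h2⟩
    haveI := isNoetherian_ring O S
    haveI := isAdicComplete_pr O S
    obtain ⟨K, hK⟩ := Ideal.exists_radical_pow_le_of_fg (pr O S) (IsNoetherian.noetherian _)
    haveI : IsAdicComplete (topRad O S) S :=
      Groth.Agent.S9405.isAdicComplete_of_pow_le (I := topRad O S) (hJ := isAdicComplete_pr O S) Ideal.le_radical hK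
    obtain ⟨χ₀, hχ₀⟩ := Groth.L12.exists_evalPS (R := O) (topRad O S) s hsrad
    have hχ₀rad : ∀ l, χ₀ (MvPowerSeries.X l) ∈ topRad O S := fun l => by rw [hχ₀]; exact hsrad l
    have h0 : ∀ g, ψ (π g) = Ideal.Quotient.mk Q (χ₀ g) := fun g =>
      hom_ext_quot χ₀ hχ₀rad Q (ψ.comp π) (fun l => by rw [AlgHom.comp_apply, hχ₀, hs]) g
    have hstart : ∀ l, χ₀ (F l) ∈ Ideal.span {α} * dpPow hI 1 := fun l =>
      Ideal.mul_mono_right (le_dp_one hI) (Ideal.Quotient.eq_zero_iff_mem.1 (by rw [← h0, hFπ, map_zero]))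
    let Good : ℕ → (MvPowerSeries (Fin m) O →ₐ[O] S) → Prop := fun n χ =>
      ∀ l, χ (F l) ∈ Ideal.span {α} * dpPow hI (n + 1)
    have step : ∀ n χ, Good n χ → ∃ χ', Good (n + 1) χ' ∧ ∀ g, χ' g - χ g ∈ dpPow hI (n + 1) := fun n χ hχ => by
      obtain ⟨χ', h1, h2⟩ := exists_step hI htn D χ F c a hD' hc (Nat.le_add_left 1 n) hχ
      exact ⟨χ', h2, h1⟩
    choose next hnext hnext' using step
    let seq : ∀ n, {χ // Good n χ} := fun n => Nat.rec ⟨χ₀, hstart⟩ (fun n χ => ⟨next n χ.1 χ.2, hnext n χ.1 χ.2⟩) n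
    have hseqI : ∀ n g, (seq n).1 g - χ₀ g ∈ I := by
      intro n
      induction n with
      | zero => intro g; simp [seq]
      | succ n ih =>
        intro g
        have := add_mem (dp_le hI (Nat.le_add_left 1 n) (hnext' n (seq n).1 (seq n).2 g)) (ih g)
        simpa [seq] using this
    have hseqrad : ∀ n l, (seq n).1 (MvPowerSeries.X l) ∈ topRad O S := fun n l => by
      simpa using add_mem (hIJ (hseqI n (MvPowerSeries.X l))) (hχ₀rad l)
    have hlim : ∀ l, ∃ L, ∀ n, L - (seq n).1 (MvPowerSeries.X l) ∈ dpPow hI n := fun l =>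
      exists_dp_limit (O := O) hI htn _ fun n => dp_anti hI (Nat.le_succ n) (hnext' n (seq n).1 (seq n).2 _)
    choose L hL using hlim
    have hLrad : ∀ l, L l ∈ topRad O S := fun l => by
      simpa using add_mem (hIJ (dp_le hI le_rfl (hL l 1))) (hseqrad 1 l)
    obtain ⟨χ, hχ⟩ := Groth.L12.exists_evalPS (R := O) (topRad O S) L hLrad
    have hdiff : ∀ n g, χ g - (seq n).1 g ∈ dpPow hI n := fun n g =>
      hom_sub_mem (seq n).1 χ (hseqrad n) _ (fun l => by rw [hχ]; exact hL l n) g
    have hχF : ∀ l, χ (F l) = 0 := fun l => eq_of_forall_dp hI htn fun n => by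
      have h2 : (seq n).1 (F l) ∈ dpPow hI n :=
        dp_anti hI (Nat.le_succ n) ((Ideal.mul_le.2 fun x _ y hy => Ideal.mul_mem_left _ x hy :
          Ideal.span {α} * dpPow hI (n + 1) ≤ dpPow hI (n + 1)) ((seq n).2 l))
      simpa using add_mem (hdiff n (F l)) h2
    have hkill : ∀ g ∈ Ideal.span (Set.range f), χ g = 0 := fun g hg => by
      have hle : Ideal.span (Set.range f) ≤ RingHom.ker χ.toRingHom := by
        rw [← hFf, Ideal.span_le]
        rintro _ ⟨l, rfl⟩
        exact RingHom.mem_ker.2 (hχF l)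
      exact RingHom.mem_ker.1 (hle hg)
    refine ⟨(Ideal.Quotient.liftₐ _ χ hkill).comp e.symm.toAlgHom, AlgHom.ext fun x => ?_⟩
    obtain ⟨g, rfl⟩ := hπ x
    show Ideal.Quotient.mk I ((Ideal.Quotient.liftₐ _ χ hkill) (e.symm (e (Ideal.Quotient.mk _ g)))) =
      Ideal.Quotient.factorₐ O hαI (ψ (π g))
    rw [AlgEquiv.symm_apply_apply, h0]
    show Ideal.Quotient.mk I (χ g) = Ideal.Quotient.mk I (χ₀ g)
    rw [Ideal.Quotient.eq]
    simpa using add_mem (dp_le hI le_rfl (hdiff 1 g)) (hseqI 1 g)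

end Groth.L06.FontLift
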