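import Mathlib.RingTheory.AdicCompletion.Basic
import Mathlib.RingTheory.AdicCompletion.Noetherian
import Mathlib.RingTheory.Artinian.Ring
import Mathlib.RingTheory.Ideal.GoingUp
import Mathlib.RingTheory.Finiteness.Basic
import Mathlib.RingTheory.Filtration
import Mathlib.RingTheory.Ideal.Quotient.Operations

/-! The topology of a finite algebra over a complete Noetherian local ring. -/

set_option autoImplicit false
set_option linter.style.haveILetI false
universe u w

open IsLocalRing

namespace Groth.L06.FontLift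

variable (O : Type u) [CommRing O] [IsLocalRing O] [IsNoetherianRing O] [IsAdicComplete (maximalIdeal O) O]
  (S : Type w) [CommRing S] [Algebra O S] [Module.Finite O S]

/-- The ideal defining the topology. -/
def pr : Ideal S := (maximalIdeal O).map (algebraMap O S)

theorem isAdicComplete_pr : IsAdicComplete (pr O S) S := by
  obtain ⟨n, π, hπ⟩ := Module.Finite.exists_fin' O S
  haveI hH : IsHausdorff (maximalIdeal O) S := IsHausdorff.of_le_jacobson _ _ (maximalIdeal_le_jacobson _)
  haveI hP : IsPrecomplete (maximalIdeal O) S := by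
    refine ⟨fun f hf => ?_⟩
    have hstep : ∀ k, ∃ d : Fin n → O, (∀ i, d i ∈ maximalIdeal O ^ k) ∧ π d = f (k + 1) - f k := by
      intro k
      have h : f (k + 1) - f k ∈ maximalIdeal O ^ k • (⊤ : Submodule O S) := SModEq.sub_mem.1 (hf (Nat.le_succ k)).symm
      rw [← LinearMap.range_eq_top.2 hπ, ← Submodule.map_top, ← Submodule.map_smul''] at h
      obtain ⟨d, hd, hd'⟩ := h
      exact ⟨d, fun i => by
        have := Submodule.smul_induction_on (p := fun x : Fin n → O => x i ∈ maximalIdeal O ^ k) hd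
          (fun r hr x _ => Ideal.mul_mem_right _ _ hr) (fun x y hx hy => Ideal.add_mem _ hx hy)
        exact this, hd'⟩
    choose d hd hd' using hstep
    obtain ⟨g₀, hg₀⟩ := hπ (f 0)
    have hlim : ∀ i, ∃ L : O, ∀ k, (g₀ i + ∑ j ∈ Finset.range k, d j i) - L ∈ maximalIdeal O ^ k := by
      intro i
      obtain ⟨L, hL⟩ := IsPrecomplete.prec' (I := maximalIdeal O) (fun k => g₀ i + ∑ j ∈ Finset.range k, d j i)
        fun {a b} hab => by
          rw [SModEq.sub_mem, smul_eq_mul, Ideal.mul_top, add_sub_add_left_eq_sub, ← neg_sub,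
            ← Finset.sum_Ico_eq_sub _ hab]
          exact neg_mem (Submodule.sum_mem _ fun j hj => Ideal.pow_le_pow_right (Finset.mem_Ico.1 hj).1 (hd j i))
      exact ⟨L, fun k => by simpa [SModEq.sub_mem] using hL k⟩
    choose L hL using hlim
    refine ⟨π L, fun k => ?_⟩
    rw [SModEq.sub_mem]
    have h1 : π (g₀ + ∑ j ∈ Finset.range k, d j) = f k := by
      rw [map_add, map_sum, hg₀]
      simp only [hd']
      rw [Finset.sum_range_sub f k]
      abel
    rw [← h1, ← map_sub, ← LinearMap.range_eq_top.2 hπ, ← Submodule.map_top, ← Submodule.map_smul'']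
    refine Submodule.mem_map_of_mem ?_
    rw [← Finset.univ_sum_single (g₀ + ∑ j ∈ Finset.range k, d j - L)]
    refine Submodule.sum_mem _ fun i _ => ?_
    rw [show ∀ c : O, (Pi.single i c : Fin n → O) = c • Pi.single i 1 from fun c => by
      rw [← Pi.single_smul, smul_eq_mul, mul_one]]
    exact Submodule.smul_mem_smul (by simpa using hL i k) trivial
  exact { toIsHausdorff := IsHausdorff.map_algebraMap_iff (I := maximalIdeal O) (M := S) (S := S) |>.2 hH
          toIsPrecomplete := IsPrecomplete.map_algebraMap_iff (I := maximalIdeal O) (M := S) (S := S) |>.2 hP }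

/-- The radical of `pr`: every topologically nilpotent element lies here. -/
abbrev topRad : Ideal S := (pr O S).radical

omit [IsLocalRing O] [IsAdicComplete (maximalIdeal O) O] in
include O in
theorem isNoetherian_ring : IsNoetherianRing S := Algebra.FiniteType.isNoetherianRing O S

variable {O S}

/-- A submodule of a quotient is detected modulo all powers of an ideal in the radical. -/
theorem mem_of_forall_pow {J : Ideal S} [IsNoetherianRing S] (hJ : J ≤ Ideal.jacobson ⊥) {Q : Ideal S} {x : S}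
    (h : ∀ k : ℕ, x ∈ Q ⊔ J ^ k) : x ∈ Q := by
  haveI : IsHausdorff J (S ⧸ Q) := IsHausdorff.of_le_jacobson J _ hJ
  rw [← Ideal.Quotient.eq_zero_iff_mem]
  refine IsHausdorff.haus ‹_› _ fun k => SModEq.zero.2 ?_
  obtain ⟨q, hq, j, hj, rfl⟩ := Submodule.mem_sup.1 (h k)
  rw [map_add, Ideal.Quotient.eq_zero_iff_mem.2 hq, zero_add,
    show Ideal.Quotient.mk Q j = j • (1 : S ⧸ Q) by rw [Algebra.smul_def, mul_one]; rfl]
  exact Submodule.smul_mem_smul hj trivial

theorem pr_le_jacobson : pr O S ≤ Ideal.jacobson ⊥ :=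
  haveI := isAdicComplete_pr O S
  IsAdicComplete.le_jacobson_bot _

theorem mem_of_forall_pr {Q : Ideal S} {x : S} (h : ∀ k : ℕ, x ∈ Q ⊔ pr O S ^ k) : x ∈ Q :=
  haveI := isNoetherian_ring O S
  mem_of_forall_pow pr_le_jacobson h

theorem exists_limit (x : ℕ → S) (h : ∀ k, x (k + 1) - x k ∈ pr O S ^ k) :
    ∃ L, ∀ k, L - x k ∈ pr O S ^ k := by
  haveI := isAdicComplete_pr O S
  obtain ⟨L, hL⟩ := IsPrecomplete.prec' (I := pr O S) x fun {a b} hab => by
    rw [SModEq.sub_mem, smul_eq_mul, Ideal.mul_top]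
    induction b, hab using Nat.le_induction with
    | base => rw [sub_self]; exact zero_mem _
    | succ b hab ih =>
      rw [show x a - x (b + 1) = (x a - x b) - (x (b + 1) - x b) by ring]
      exact sub_mem ih (Ideal.pow_le_pow_right hab (h b))
  exact ⟨L, fun k => by rw [← neg_sub]; exact neg_mem (by simpa [SModEq.sub_mem] using hL k)⟩

theorem isArtinian_quotient (k : ℕ) : IsArtinianRing (S ⧸ pr O S ^ k) := by
  haveI := isNoetherian_ring O S
  haveI : Algebra.IsIntegral O S := Algebra.IsIntegral.of_finite O S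
  haveI : Module.Finite O (S ⧸ pr O S ^ k) :=
    Module.Finite.of_surjective (Ideal.Quotient.mkₐ O (pr O S ^ k)).toLinearMap Ideal.Quotient.mk_surjective
  haveI : Algebra.IsIntegral O (S ⧸ pr O S ^ k) := Algebra.IsIntegral.of_finite O _
  haveI : IsNoetherianRing (S ⧸ pr O S ^ k) := Algebra.FiniteType.isNoetherianRing O _
  haveI : Ring.KrullDimLE 0 (S ⧸ pr O S ^ k) := Ring.krullDimLE_zero_iff.2 fun P hP => by
    refine Ideal.isMaximal_of_isIntegral_of_isMaximal_comap (R := O) P ?_
    have h : maximalIdeal O ≤ P.comap (algebraMap O (S ⧸ pr O S ^ k)) := fun z hz => by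
      refine hP.mem_of_pow_mem k ?_
      rw [← map_pow, show algebraMap O (S ⧸ pr O S ^ k) (z ^ k) = 0 from Ideal.Quotient.eq_zero_iff_mem.2 (by
        rw [map_pow]; exact Ideal.pow_mem_pow (Ideal.mem_map_of_mem _ hz) k)]
      exact P.zero_mem
    exact (maximalIdeal.isMaximal O).eq_of_le (Ideal.comap_ne_top _ hP.ne_top) h ▸ maximalIdeal.isMaximal O
  exact isArtinianRing_iff_isNoetherianRing_krullDimLE_zero.2 ⟨inferInstance, inferInstance⟩

/-- Chevalley's lemma. -/
theorem chevalley (Q : ℕ → Ideal S) (hQ : Antitone Q) (h0 : ⨅ n, Q n = ⊥) (k : ℕ) : ∃ n, Q n ≤ pr O S ^ k := by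
  have hstab : ∀ j, ∃ n, ∀ n', n ≤ n' → Q n ⊔ pr O S ^ j ≤ Q n' ⊔ pr O S ^ j := by
    intro j
    haveI := isArtinian_quotient (O := O) (S := S) j
    obtain ⟨n, hn⟩ := IsArtinian.monotone_stabilizes (R := S ⧸ pr O S ^ j) (M := S ⧸ pr O S ^ j)
      ⟨fun n => OrderDual.toDual ((Q n).map (Ideal.Quotient.mk (pr O S ^ j))), fun a b hab => Ideal.map_mono (hQ hab)⟩
    refine ⟨n, fun n' hn' => ?_⟩
    have := congrArg (fun J : Ideal (S ⧸ pr O S ^ j) => J.comap (Ideal.Quotient.mk (pr O S ^ j)))
      (OrderDual.toDual.injective (hn n' hn'))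
    simp only [Ideal.comap_map_of_surjective _ Ideal.Quotient.mk_surjective] at this
    rw [← RingHom.ker_eq_comap_bot, Ideal.mk_ker] at this
    exact this.le
  choose n hn using hstab
  obtain ⟨N, hN, hNn⟩ : ∃ N : ℕ → ℕ, Monotone N ∧ ∀ j, n j ≤ N j :=
    ⟨fun j => ∑ i ∈ Finset.range (j + 1), n i, fun a b hab => Finset.sum_le_sum_of_subset
      (Finset.range_mono (Nat.add_le_add_right hab 1)), fun j => Finset.single_le_sum (f := n) (fun _ _ => Nat.zero_le _) (by simp)⟩
  have hN' : ∀ j n', N j ≤ n' → Q (N j) ⊔ pr O S ^ j ≤ Q n' ⊔ pr O S ^ j := fun j n' h =>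
    (sup_le_sup_right (hQ (hNn j)) _).trans (hn j n' ((hNn j).trans h))
  refine ⟨N k, fun x hx => ?_⟩
  have step : ∀ j (y : S), y ∈ Q (N j) → ∃ y' ∈ Q (N (j + 1)), y' - y ∈ pr O S ^ j := fun j y hy => by
    obtain ⟨y', hy', r, hr, h⟩ := Submodule.mem_sup.1 (hN' j (N (j + 1)) (hN (Nat.le_succ j)) (Submodule.mem_sup_left hy))
    exact ⟨y', hy', by rw [← h, sub_add_cancel_left]; exact neg_mem hr⟩
  choose! next hnext hnext' using step
  let z : ℕ → S := Nat.rec x fun j y => next (k + j) y
  have hz : ∀ j, z j ∈ Q (N (k + j)) := fun j => by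
    induction j with
    | zero => exact hx
    | succ j ih => exact hnext (k + j) _ ih
  obtain ⟨L, hL⟩ := exists_limit (O := O) z fun j => Ideal.pow_le_pow_right (by omega : j ≤ k + j) (hnext' (k + j) _ (hz j))
  have hLmem : L = 0 := by
    rw [← Submodule.mem_bot S, ← h0, Submodule.mem_iInf]
    intro n₀
    refine mem_of_forall_pr (O := O) fun j => ?_
    obtain ⟨i, hji, hin⟩ : ∃ i, j ≤ i ∧ j ≤ k + i := ⟨j, le_rfl, by omega⟩
    have h2 : Q (N (k + i)) ≤ Q n₀ ⊔ pr O S ^ j := by
      rcases le_total (N (k + i)) n₀ with h | h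
      · exact le_sup_left.trans ((hN' (k + i) n₀ h).trans (sup_le_sup_left (Ideal.pow_le_pow_right hin) _))
      · exact (hQ h).trans le_sup_left
    have := add_mem (h2 (hz i)) (Submodule.mem_sup_right (S := Q n₀) (Ideal.pow_le_pow_right hji (hL i)))
    simpa using this
  have htel : ∀ j, z j - x ∈ pr O S ^ k := fun j => by
    induction j with
    | zero => simp [z]
    | succ j ih =>
      rw [show z (j + 1) - x = (z (j + 1) - z j) + (z j - x) by ring]
      exact add_mem (Ideal.pow_le_pow_right (by omega) (hnext' (k + j) _ (hz j))) ih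
  have h3 := hL k
  rw [hLmem, zero_sub] at h3
  have := sub_mem (neg_mem h3) (htel k)
  simpa using this

end Groth.L06.FontLift
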